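import Cfsg.Agent.LocalEvenD.RankThreeEss.GL3Cases

/-!
# Tori at every conjugate, and the two-dimensional case
-/

set_option autoImplicit false
set_option linter.style.haveILetI false

namespace Cfsg.Agent.LocalEvenD.RTP

open Cfsg.Agent.LocalEvenD.RTE

variable {V : Type*} [CommGroup V] [Finite V] {L : Type*} [Group L] [Finite L] {p : ℕ} [Fact p.Prime]
variable {ρ : L →* MulAut V} {M P : Subgroup L}

/-- The torus of a transvection `z` and its conjugate by `g ∉ M`. -/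
theorem torus_at (C : Ctx p ρ M P) {z : L} {a : V} {h : Subgroup V} (hz : z ∈ P) (T : IsTr p ρ z a h)
    {g : L} (hg : g ∉ M) :
    ∃ (b f : V) (s : ℕ), (s : ZMod p) ≠ 0 ∧ ρ z a = a ∧ ρ z f = f ∧ ρ z b = b * a ^ s ∧
      (∀ v : V, ∃ i j k : ℕ, v = a ^ i * b ^ j * f ^ k) ∧ f ∈ h ∧ f ∉ Subgroup.zpowers a ∧
      ρ (g * z * g⁻¹) f = f ∧
      (∀ v : V, ρ z v = v → ρ (g * z * g⁻¹) v = v → v ∈ Subgroup.zpowers f) ∧
      ∀ c : ZMod p, c ≠ 0 → ∃ k : L, ρ k a = a ^ c.val ∧ ρ k b = b ^ c⁻¹.val ∧ ρ k f = f ∧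
        k * z * k⁻¹ = z ^ (c * c).val := by
  have hzp := T.pow_p C.inj C.exp
  set b := ρ g a
  set h' := h.map (ρ g).toMonoidHom
  have T' : IsTr p ρ (g * z * g⁻¹) b h' := T.conj g
  have hwM := C.conj_not_mem hzp T.ne (C.le hz) hg
  obtain ⟨hak, hbh⟩ := C.opposite T T' (C.le hz) hwM
  obtain ⟨f, hf, hf', hf1⟩ := exists_mem_inter C.exp C.card T.card T'.card
  have hfa : f ∉ Subgroup.zpowers a := fun hm =>
    hak (Subgroup.zpowers_le.mpr hf' (gen_of_mem C.exp T.cne hf1 hm))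
  obtain ⟨s, hs⟩ := exists_pow_eq C.exp (T.move b)
  obtain ⟨t, ht⟩ := exists_pow_eq C.exp (T'.move a)
  have hs0 : (s : ZMod p) ≠ 0 := fun h0 => hbh (T.mem_of_fix C.inj C.exp C.card (dsp_eq_one.mp (by
    rw [hs, pow_cast C.exp a (h0.trans Nat.cast_zero.symm), pow_zero])))
  have ht0 : (t : ZMod p) ≠ 0 := fun h0 => hak (T'.mem_of_fix C.inj C.exp C.card (dsp_eq_one.mp (by
    rw [ht, pow_cast C.exp b (h0.trans Nat.cast_zero.symm), pow_zero])))
  have hdec : ∀ v : V, ∃ i j k : ℕ, v = a ^ i * b ^ j * f ^ k := fun v => by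
    obtain ⟨x, hx, n, rfl⟩ := decomp C.exp C.card T.card hbh v
    obtain ⟨i, j, rfl⟩ := decomp_two C.exp T.card T.mem hf T.cne hfa hx
    exact ⟨i, n, j, mul_right_comm _ _ _⟩
  have hzb : ρ z b = b * a ^ s := by rw [apply_eq (ρ := ρ) z b, hs]
  refine ⟨b, f, s, hs0, T.fix a T.mem, T.fix f hf, hzb, hdec, hf, hfa, T'.fix f hf', fun v hv hv' => ?_,
    fun c hc => ?_⟩
  · have h1 := T.mem_of_fix C.inj C.exp C.card hv
    have h2 := T'.mem_of_fix C.inj C.exp C.card hv'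
    obtain ⟨i, j, rfl⟩ := decomp_two C.exp T.card T.mem hf T.cne hfa h1
    have h3 : a ^ i ∈ h' := by
      have := h'.mul_mem h2 (h'.inv_mem (h'.pow_mem hf' j))
      rwa [mul_inv_cancel_right] at this
    rcases eq_or_ne (a ^ i) 1 with h4 | h4
    · rw [h4, one_mul]; exact Subgroup.pow_mem _ (Subgroup.mem_zpowers f) j
    · exact absurd (Subgroup.zpowers_le.mpr h3 (gen_of_mem C.exp T.cne h4
        (Subgroup.pow_mem _ (Subgroup.mem_zpowers a) i))) hak
  obtain ⟨k, hk, hka, hkb⟩ := exists_torus C.exp hs0 ht0 (T.fix a T.mem) hzb (T'.fix b T'.mem)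
    (by rw [apply_eq (ρ := ρ) (g * z * g⁻¹) a, ht]) hc
  have hkf : ρ k f = f := fix_of_mem_closure hk (T.fix f hf) (T'.fix f hf')
  refine ⟨k, hka, hkb, hkf, ?_⟩
  have key : k * z = z ^ (c * c).val * k := by
    refine C.inj (MulEquiv.ext fun v => ?_)
    obtain ⟨i, j, l, rfl⟩ := hdec v
    have hn := fun n => iter_apply (ρ := ρ) (T.fix_pow_a (T.move b)) n
    have e1 : ρ (k * z) a = ρ (z ^ (c * c).val * k) a := by
      rw [map_mul, map_mul, MulAut.mul_apply, MulAut.mul_apply, T.fix a T.mem, hka, map_pow (ρ (z ^ _)),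
        fix_pow (T.fix a T.mem)]
    have e2 : ρ (k * z) f = ρ (z ^ (c * c).val * k) f := by
      rw [map_mul, map_mul, MulAut.mul_apply, MulAut.mul_apply, T.fix f hf, hkf, fix_pow (T.fix f hf)]
    have e3 : ρ (k * z) b = ρ (z ^ (c * c).val * k) b := by
      rw [map_mul, map_mul, MulAut.mul_apply, MulAut.mul_apply, hzb, map_mul, map_pow, hka, hkb,
        map_pow (ρ (z ^ _)), hn, hs, mul_pow, ← pow_mul, ← pow_mul, ← pow_mul]
      congr 1
      refine pow_cast C.exp a ?_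
      push_cast
      simp only [ZMod.natCast_zmod_val]
      field_simp
    generalize k * z = q at e1 e2 e3 ⊢
    generalize z ^ (c * c).val * k = q' at e1 e2 e3 ⊢
    simp only [map_mul, map_pow, e1, e2, e3]
  rw [key, mul_inv_cancel_right]

/-- Two dimensions: no invariant line and a Sylow subgroup of order `p`. -/
theorem two_dim (hinj : Function.Injective ρ) (hexp : ∀ v : V, v ^ p = 1) (hcard : Nat.card V = p ^ 2)
    (hP : IsPGroup p P) (hne : P ≠ ⊥) (hnorm : ∀ N : Subgroup L, N.Normal → IsPGroup p N → N = ⊥) :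
    Nat.card P = p ∧ ∀ U : Subgroup V, (∀ u : L, ∀ v ∈ U, ρ u v ∈ U) → U = ⊥ ∨ U = ⊤ := by
  classical
  have hpp := (Fact.out : p.Prime)
  obtain ⟨a, -, ha1, hafix⟩ := exists_fixed (ρ := ρ) hP (U := ⊤) (fun _ _ _ _ => Subgroup.mem_top _)
    (by rw [Subgroup.card_top, hcard]; exact dvd_pow_self p two_ne_zero)
  set A := Subgroup.zpowers a
  have hAinv : ∀ u ∈ P, ∀ v ∈ A, ρ u v ∈ A := by
    rintro u hu v ⟨i, rfl⟩
    show ρ u (a ^ i) ∈ _
    rw [map_zpow, hafix u hu]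
    exact Subgroup.zpow_mem _ (Subgroup.mem_zpowers a) i
  have hline : ∀ U : Subgroup V, Nat.card U = p → U.relIndex ⊤ = p := fun U hU => by
    rw [Subgroup.relIndex_top_right]
    have h2 := U.card_mul_index
    rw [hU, hcard, sq] at h2
    exact Nat.eq_of_mul_eq_mul_left hpp.pos h2
  have hdA : ∀ u ∈ P, ∀ v, dsp ρ u v ∈ A := fun u hu v =>
    dsp_mem_of_step hP hAinv (W := ⊤) (fun _ _ _ _ => Subgroup.mem_top _) (hline A (card_zp hexp ha1)) hu
      (Subgroup.mem_top v)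
  refine ⟨le_antisymm ?_ ?_, fun U hU => ?_⟩
  · obtain ⟨b, hb⟩ : ∃ b, b ∉ A := by
      by_contra h
      push Not at h
      have h1 : A = ⊤ := eq_top_iff.mpr fun v _ => h v
      have h2 := card_zp hexp ha1
      rw [show Subgroup.zpowers a = ⊤ from h1, Subgroup.card_top, hcard] at h2
      nlinarith [hpp.two_le]
    refine le_trans (Nat.card_le_card_of_injective (fun t : P => (⟨dsp ρ t b, hdA t t.2 b⟩ : A))
      fun t t' htt => ?_) (card_zp hexp ha1).le
    refine Subtype.ext (hinj (MulEquiv.ext fun v => ?_))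
    obtain ⟨i, j, rfl⟩ := decomp_two hexp (h := ⊤) (by rw [Subgroup.card_top, hcard]) (Subgroup.mem_top _)
      (Subgroup.mem_top _) ha1 hb (Subgroup.mem_top v)
    have h1 : dsp ρ t b = dsp ρ t' b := congrArg Subtype.val htt
    rw [map_mul, map_mul, map_pow, map_pow, map_pow, map_pow, hafix t t.2, hafix t' t'.2,
      apply_eq (ρ := ρ) (t : L) b, apply_eq (ρ := ρ) (t' : L) b, h1]
  · obtain ⟨n, hn⟩ := IsPGroup.iff_card.mp hP
    rw [hn]
    exact Nat.le_self_pow (fun h0 => hne (Subgroup.card_eq_one.mp (by rw [hn, h0, pow_zero]))) p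
  · by_contra hU'
    push Not at hU'
    have hPV : IsPGroup p V := fun v => ⟨1, by rw [pow_one]; exact hexp v⟩
    have hUc : Nat.card U = p := by
      obtain ⟨n, hn⟩ := IsPGroup.iff_card.mp (hPV.to_subgroup U)
      have h1 : n ≤ 2 := by
        have := Subgroup.card_dvd_of_le (le_top : U ≤ ⊤)
        rw [hn, Subgroup.card_top, hcard] at this
        exact (Nat.pow_dvd_pow_iff_le_right hpp.one_lt).mp this
      have h2 : n ≠ 0 := fun h0 => hU'.1 (Subgroup.card_eq_one.mp (by rw [hn, h0, pow_zero]))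
      have h3 : n ≠ 2 := fun h0 => hU'.2 (Subgroup.eq_top_of_card_eq U (by rw [hn, h0, hcard]))
      rw [hn, show n = 1 by omega, pow_one]
    refine hne (le_bot_iff.mp ?_)
    rw [← hnorm (stab ρ U) ⟨fun m hm g => conj_mem_stab (hU g) (hU g⁻¹) hm⟩ (stab_isPGroup hinj hexp U)]
    exact fun u hu => ⟨fun v => dsp_mem_of_step hP (fun u _ => hU u) (W := ⊤) (fun _ _ _ _ => Subgroup.mem_top _)
      (hline U hUc) hu (Subgroup.mem_top v), fun v hv => fix_line hP (fun u _ => hU u) hUc hu hv⟩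

end Cfsg.Agent.LocalEvenD.RTP
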