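import Cfsg.Agent.LocalEvenD.RankThreePearl.Setup
import Cfsg.Agent.Fusion91.SmallEssential

/-!
# A core-free system of sectional rank three has a pearl
-/

set_option autoImplicit false
set_option linter.style.haveILetI false

namespace Cfsg.Agent.LocalEvenD.RTP

open scoped commutatorElement
open Cfsg.Agent
open Cfsg.Agent.LocalEvenD.RTE
open Cfsg.FusionSystem (normalizerIn centralizerIn)

variable {Ω : Type*} [Group Ω] {S : Subgroup Ω} [Finite S] {p : ℕ} [Fact p.Prime] {F : Cfsg.FusionSystem S}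

lemma image_eq_of_mapsTo {P Q : Subgroup Ω} (hP : P ≤ S) (hQ : Q ≤ P) (α : MulAut P)
    (h : ∀ x ∈ Q, Fusion.autFun α x ∈ Q) : Fusion.autFun α '' (Q : Set Ω) = (Q : Set Ω) := by
  haveI := Fusion.finite_of_le (hQ.trans hP)
  refine Set.Subset.antisymm ?_ fun y hy => ?_
  · rintro _ ⟨x, hx, rfl⟩
    exact h x hx
  · have hinj : Function.Injective fun x : Q => (⟨Fusion.autFun α x, h x x.2⟩ : Q) := fun u v huv => by
      have h1 := congrArg Subtype.val huv
      simp only [Fusion.autFun_of_mem α (hQ u.2), Fusion.autFun_of_mem α (hQ v.2)] at h1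
      have h2 := α.injective (Subtype.ext h1)
      exact Subtype.ext (congrArg Subtype.val h2 :)
    obtain ⟨⟨x, hx⟩, hxy⟩ := (Finite.injective_iff_surjective.mp hinj) ⟨y, hy⟩
    exact ⟨x, hx, congrArg Subtype.val hxy⟩

lemma char_image {P : Subgroup Ω} (hP : P ≤ S) {U : Subgroup P} (hU : U.Characteristic) (α : MulAut P) :
    Fusion.autFun α '' ((U.map P.subtype : Subgroup Ω) : Set Ω) = ((U.map P.subtype : Subgroup Ω) : Set Ω) := by
  refine image_eq_of_mapsTo hP (Subgroup.map_subtype_le _) α ?_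
  rintro _ ⟨u, hu, rfl⟩
  refine ⟨α u, Subgroup.characteristic_iff_map_le.mp hU α ⟨u, hu, rfl⟩, ?_⟩
  exact (Fusion.autFun_coe α u).symm

lemma false_of_invariant (hS : IsPGroup p S) (hF : F.IsSaturated p) (hO : F.core = ⊥) {Q : Subgroup Ω}
    (hQ : Q ≠ ⊥) (h : ∀ P, (P = S ∨ F.IsEssential p P) →
      Q ≤ P ∧ ∀ α ∈ F.autGroup P, Fusion.autFun α '' (Q : Set Ω) = (Q : Set Ω)) : False := by
  refine hQ (le_bot_iff.mp ?_)
  rw [← hO]
  exact le_sSup (Fusion.isNormal_of_invariant hS hF h)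

lemma rankThree_self (hsr : Cfsg.SectionalPRankLE p 3 S) : RankThree p S := rankThree_of_le hsr le_rfl

/-- The Frattini index of an essential subgroup. -/
lemma index_cases (hS : IsPGroup p S) (hsr : Cfsg.SectionalPRankLE p 3 S) {E : Subgroup Ω}
    (hE : F.IsEssential p E) : (frattini E).index = p ^ 2 ∨ (frattini E).index = p ^ 3 := by
  haveI := Fusion.finite_of_le hE.1.1
  have hEp : IsPGroup p E := hS.to_le hE.1.1
  obtain ⟨n, hn⟩ := IsPGroup.iff_card.mp (hEp.to_quotient (frattini E))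
  have hn' : (frattini E).index = p ^ n := hn
  have h2 : 1 < n := by
    by_contra h
    push Not at h
    refine Fusion91.not_isCyclic_of_essential hE (PGroup.isCyclic_of_index_frattini_le hEp ?_)
    rw [hn']
    calc p ^ n ≤ p ^ 1 := Nat.pow_le_pow_right (Fact.out : p.Prime).pos h
      _ = p := pow_one p
  have h3 : n ≤ 3 := by
    have h := rankThree_of_le hsr hE.1.1 (⊤ : Subgroup E) (frattini E) le_top inferInstance
      (fun u _ v _ => PGroup.comm_mem_frattini hEp u v) (fun u _ => PGroup.pow_mem_frattini hEp u)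
    rw [Subgroup.card_top, ← (frattini E).index_mul_card, hn'] at h
    exact (Nat.pow_le_pow_iff_right (Fact.out : p.Prime).one_lt).mp (Nat.le_of_mul_le_mul_right h Nat.card_pos)
  obtain rfl | rfl : n = 2 ∨ n = 3 := by omega
  · exact Or.inl hn'
  · exact Or.inr hn'

lemma card_gt_of_not_pearl (hp : 5 ≤ p) (hS : IsPGroup p S) {E : Subgroup Ω} (hE : F.IsEssential p E)
    (hfr : (frattini E).index = p ^ 2)
    (hnp : ¬ ((Cfsg.IsElementaryAbelian p E ∧ Nat.card E = p ^ 2) ∨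
      (Cfsg.IsExtraspecial p E ∧ Nat.card E = p ^ 3 ∧ ∀ x ∈ E, x ^ p = 1))) :
    p ^ 3 < Nat.card E := by
  haveI := Fusion.finite_of_le hE.1.1
  have hEp : IsPGroup p E := hS.to_le hE.1.1
  obtain ⟨n, hn⟩ := IsPGroup.iff_card.mp hEp
  rw [hn]
  refine Nat.pow_lt_pow_right (Fact.out : p.Prime).one_lt ?_
  have h2 : 2 ≤ n := by
    have h := Subgroup.index_dvd_card (H := frattini E)
    rw [hfr, hn] at h
    exact (Nat.pow_dvd_pow_iff_le_right (Fact.out : p.Prime).one_lt).mp h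
  by_contra h
  push Not at h
  obtain rfl | rfl : n = 2 ∨ n = 3 := by omega
  · exact hnp (Or.inl ⟨(Fusion91.sl2_of_essential_sq hS hE hn).1, hn⟩)
  · rcases Fusion91.essential_cube hS hE hn with hel | ⟨-, hx, hexp⟩ | ⟨h2', -⟩
    · have hbot : frattini E = ⊥ := PGroup.frattini_eq_bot (p := p)
        (fun a b => hel.1.is_comm.comm a b) (fun a => Subtype.ext (hel.2 a a.2))
      rw [hbot, Subgroup.index_bot, hn] at hfr
      exact absurd (Nat.pow_right_injective (Fact.out : p.Prime).two_le hfr) (by norm_num)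
    · exact hnp (Or.inr ⟨hx, hn, hexp⟩)
    · omega

lemma elementary_of_bot (hS : IsPGroup p S) {E : Subgroup Ω} (hES : E ≤ S) (hbot : frattini E = ⊥) :
    (∀ u ∈ E, ∀ v ∈ E, u * v = v * u) ∧ ∀ u ∈ E, u ^ p = 1 := by
  haveI := Fusion.finite_of_le hES
  have hEp : IsPGroup p E := hS.to_le hES
  refine ⟨fun u hu v hv => ?_, fun u hu => ?_⟩
  · have h := PGroup.comm_mem_frattini hEp (⟨u, hu⟩ : E) ⟨v, hv⟩
    rw [hbot, Subgroup.mem_bot, commutatorElement_eq_one_iff_commute] at h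
    exact congrArg Subtype.val h.eq
  · have h := PGroup.pow_mem_frattini hEp (⟨u, hu⟩ : E)
    rw [hbot, Subgroup.mem_bot] at h
    exact congrArg Subtype.val h

/-- The elementary transvection configuration has an invariant line. -/
theorem line_false (hp : 5 ≤ p) (hS : IsPGroup p S) (hF : F.IsSaturated p) (hO : F.core = ⊥)
    (hex : ∃ E, F.IsEssential p E)
    (hall : ∀ E, F.IsEssential p E → S ≤ Subgroup.normalizer (E : Set Ω) ∧ frattini E = ⊥ ∧ IsLineData p F E) :
    False := by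
  classical
  have hpp := (Fact.out : p.Prime)
  obtain ⟨E₁, hE₁⟩ := hex
  obtain ⟨-, hb₁, a, ha1, haE, hac, hcomm, ⟨γ₀, hγ₀, hnn₀⟩, hdata⟩ := hall E₁ hE₁
  obtain ⟨f₀, hf₀E, c₀, δ₀, hδ₀, hc₀, hδa, hδf, hf₀c, hZ, hind, -, -⟩ := hdata γ₀ hγ₀ hnn₀
  have hap : a ^ p = 1 := Subtype.ext (by
    simpa using (elementary_of_bot hS hE₁.1.1 hb₁).2 _ haE)
  have hfp : f₀ ^ p = 1 := Subtype.ext (by
    simpa using (elementary_of_bot hS hE₁.1.1 hb₁).2 _ hf₀E)
  have hcz : ∀ (y : S), y ^ p = 1 → ∀ m n : ℕ, (m : ZMod p) = n → y ^ m = y ^ n := fun y hy m n h => by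
    rw [pow_eq_pow_mod m hy, pow_eq_pow_mod n hy, (ZMod.natCast_eq_natCast_iff' _ _ _).mp h]
  have hcaf : ∀ i j : ℕ, Commute (a ^ i) (f₀ ^ j) := fun i j =>
    ((PGroup.commute_of_mem_center hac f₀).pow_pow i j)
  have hind' : ∀ i j i' j' : ℕ, a ^ i * f₀ ^ j = a ^ i' * f₀ ^ j' → (i : ZMod p) = i' ∧ (j : ZMod p) = j' := by
    intro i j i' j' h
    have h1 : a ^ (i + (p - 1) * i') * f₀ ^ (j + (p - 1) * j') = 1 := by
      rw [pow_add, pow_add, (hcaf ((p - 1) * i') j).mul_mul_mul_comm, h,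
        (hcaf ((p - 1) * i') j').symm.mul_mul_mul_comm, ← pow_add, ← pow_add,
        show i' + (p - 1) * i' = p * i' by rw [Nat.sub_mul, one_mul, Nat.add_sub_cancel' (Nat.le_mul_of_pos_left i' hpp.pos)],
        show j' + (p - 1) * j' = p * j' by rw [Nat.sub_mul, one_mul, Nat.add_sub_cancel' (Nat.le_mul_of_pos_left j' hpp.pos)],
        pow_mul, pow_mul, hap, hfp, one_pow, one_pow, one_mul]
    obtain ⟨e1, e2⟩ := hind _ _ h1
    push_cast [Nat.cast_sub hpp.pos, ZMod.natCast_self] at e1 e2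
    exact ⟨by linear_combination e1, by linear_combination e2⟩
  have hA : ∀ u : S, u ∈ Subgroup.zpowers a → ∃ n : ℕ, a ^ n = u := fun u hu =>
    (isOfFinOrder_of_finite a).mem_powers_iff_mem_zpowers.mpr hu
  have hψa : ∀ ψ : MulAut S, ∃ n : ℕ, a ^ n = ψ a := fun ψ => hA _ (by
    rw [← hcomm]
    exact Subgroup.characteristic_iff_map_le.mp inferInstance ψ ⟨a, hcomm.ge (Subgroup.mem_zpowers a), rfl⟩)
  haveI : Finite (MulAut S) := Fusion.finite_mulAut S
  -- every automorphism in the system preserves the line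
  have hline : ∀ ψ ∈ F.autGroup S, ∃ n : ℕ, ψ f₀ = f₀ ^ n := by
    intro ψ hψ
    have hfc : ψ f₀ ∈ Subgroup.center S :=
      Subgroup.characteristic_iff_map_le.mp inferInstance ψ ⟨f₀, hf₀c, rfl⟩
    obtain ⟨κ, μ, hf'⟩ := hZ _ hfc
    refine ⟨μ, ?_⟩
    obtain ⟨R, hR⟩ := (Fusion.fullyAutomized_of_fullyNormalized hS hF (Fusion.fullyNormalized_self (F := F))).2
    rw [Fusion.autInducedBy_self_eq_inn] at hR
    set δ' := ψ * δ₀ * ψ⁻¹ with hδ'
    have hδ'a : δ' a = a ^ c₀ := by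
      obtain ⟨n, hn⟩ := hψa ψ⁻¹
      rw [hδ', MulAut.mul_apply, MulAut.mul_apply, ← hn, map_pow, hδa, ← pow_mul, mul_comm, pow_mul, map_pow, hn,
        MulAut.apply_inv_self]
    have hδ'f : δ' (ψ f₀) = ψ f₀ := by
      rw [hδ', MulAut.mul_apply, MulAut.mul_apply, MulAut.inv_apply_self, hδf]
    set γ := δ' * δ₀⁻¹ with hγ
    have hc0 : (c₀ : ZMod p) ≠ 0 := fun h0 => ha1 (δ₀.injective (by
      rw [hδa, hcz a hap c₀ 0 (by rw [h0, Nat.cast_zero]), pow_zero, map_one]))
    have hγδ : ∀ y, γ (δ₀ y) = δ' y := fun y => by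
      rw [hγ, MulAut.mul_apply, MulAut.inv_apply_self]
    have hγa : γ a = a := by
      have h1 : γ (a ^ c₀) = a ^ c₀ := by
        have := hγδ a
        rwa [hδa, hδ'a] at this
      have h2 : a = (a ^ c₀) ^ ((c₀ : ZMod p)⁻¹).val := by
        rw [← pow_mul]
        refine ((pow_one a).symm.trans (hcz a hap 1 _ ?_))
        push_cast
        rw [ZMod.natCast_zmod_val, mul_inv_cancel₀ hc0]
      rw [h2, map_pow, h1]
    have hstep : a ^ (c₀ * κ) * γ (f₀ ^ μ) = a ^ κ * f₀ ^ μ := by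
      have := hγδ (ψ f₀)
      rw [hδ'f, hf', map_mul, map_pow δ₀, map_pow δ₀, hδa, hδf, map_mul, ← pow_mul, map_pow γ a, hγa] at this
      exact this
    set t := κ + (p - 1) * (c₀ * κ) with ht
    have hγf : γ (f₀ ^ μ) = a ^ t * f₀ ^ μ := by
      rw [← mul_right_inj (a ^ (c₀ * κ)), hstep, ← mul_assoc, ← pow_add, ht,
        show c₀ * κ + (κ + (p - 1) * (c₀ * κ)) = κ + p * (c₀ * κ) by
          rw [Nat.sub_mul, one_mul, add_left_comm, Nat.add_sub_cancel' (Nat.le_mul_of_pos_left _ hpp.pos)],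
        pow_add, pow_mul, hap, one_pow, mul_one]
    have hit : ∀ n : ℕ, (γ ^ n) (f₀ ^ μ) = a ^ (n * t) * f₀ ^ μ := fun n => by
      induction n with
      | zero => simp
      | succ n ih => rw [pow_succ', MulAut.mul_apply, ih, map_mul, map_pow γ a, hγa, hγf, ← mul_assoc, ← pow_add,
          add_mul, one_mul]
    haveI hIn : ((Cfsg.Inn S).subgroupOf (F.autGroup S)).Normal := Fusion.inn_subgroupOf_normal
    set m := ((Cfsg.Inn S).subgroupOf (F.autGroup S)).index
    have hm : ¬ p ∣ m := by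
      have := R.not_dvd_index
      rwa [hR] at this
    have hγA : γ ∈ F.autGroup S := mul_mem (mul_mem (mul_mem hψ hδ₀) (inv_mem hψ)) (inv_mem hδ₀)
    have hinn : γ ^ m ∈ Cfsg.Inn S := by
      have := Subgroup.pow_index_mem ((Cfsg.Inn S).subgroupOf (F.autGroup S)) ⟨γ, hγA⟩
      rw [Subgroup.mem_subgroupOf] at this
      simpa using this
    obtain ⟨g, hg⟩ := hinn
    have hfix : (γ ^ m) (f₀ ^ μ) = f₀ ^ μ := by
      rw [← hg]
      show g * (f₀ ^ μ) * g⁻¹ = f₀ ^ μ
      rw [Subgroup.mem_center_iff.mp (pow_mem hf₀c μ) g, mul_inv_cancel_right]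
    rw [hit, mul_eq_right] at hfix
    obtain ⟨e, -⟩ := hind (m * t) 0 (by rw [pow_zero, mul_one, hfix])
    push_cast [ht, Nat.cast_sub hpp.pos, ZMod.natCast_self] at e
    have hκ : (κ : ZMod p) = 0 := by
      have h1 : (m : ZMod p) * ((1 - c₀) * κ) = 0 := by linear_combination e
      exact (mul_eq_zero.mp ((mul_eq_zero.mp h1).resolve_left (fun h => hm ((ZMod.natCast_eq_zero_iff m p).mp h)))).resolve_left
        (sub_ne_zero.mpr fun h => hc₀ h.symm)
    rw [hf', hcz a hap κ 0 (by rw [hκ, Nat.cast_zero]), pow_zero, one_mul]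
  -- all distinguished lines coincide
  have huniq : ∀ (a' f : S) (c : ℕ) (δ : MulAut S), δ ∈ F.autGroup S → (c : ZMod p) ≠ 1 →
      commutator S = Subgroup.zpowers a' → δ a' = a' ^ c → δ f = f → f ∈ Subgroup.center S → f ≠ 1 →
      Subgroup.zpowers f = Subgroup.zpowers f₀ := by
    intro a' f c δ hδ hc hcomm' hδa' hδf' hfc hf1
    obtain ⟨t, ht⟩ := hline δ hδ
    obtain ⟨m, hm⟩ := (isOfFinOrder_of_finite a').mem_powers_iff_mem_zpowers.mpr
      (show a ∈ Subgroup.zpowers a' by rw [← hcomm', hcomm]; exact Subgroup.mem_zpowers a)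
    have hδa2 : δ a = a ^ c := by
      rw [← show a' ^ m = a from hm, map_pow, hδa', ← pow_mul, ← pow_mul, mul_comm]
    obtain ⟨i, j, rfl⟩ := hZ f hfc
    rw [map_mul, map_pow, map_pow, hδa2, ht, ← pow_mul, ← pow_mul] at hδf'
    obtain ⟨e1, e2⟩ := hind' _ _ _ _ hδf'
    push_cast at e1
    have hi : (i : ZMod p) = 0 := by
      have h1 : ((c : ZMod p) - 1) * i = 0 := by linear_combination e1
      exact (mul_eq_zero.mp h1).resolve_left (sub_ne_zero.mpr hc)
    rw [hcz a hap i 0 (by rw [hi, Nat.cast_zero]), pow_zero, one_mul] at hf1 ⊢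
    refine Subgroup.eq_of_le_of_card_ge (Subgroup.zpowers_le.mpr (Subgroup.pow_mem _ (Subgroup.mem_zpowers f₀) j)) ?_
    rw [Nat.card_zpowers, Nat.card_zpowers,
      orderOf_eq_prime (by rw [← pow_mul, mul_comm, pow_mul, hfp, one_pow]) hf1]
    exact orderOf_le_of_pow_eq_one hpp.pos hfp
  -- the line is normal
  set Q := Subgroup.zpowers (f₀ : Ω)
  refine false_of_invariant hS hF hO (Q := Q) ?_ ?_
  · rw [Ne, Subgroup.zpowers_eq_bot]
    intro h
    exact one_ne_zero (α := ZMod p) (by simpa using (hind 0 1 (by simp [Subtype.ext_iff, h])).2)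
  intro P hP
  have hQS : Q ≤ S := Subgroup.zpowers_le.mpr f₀.2
  have hmemQ : ∀ {u : S}, u ∈ Subgroup.zpowers f₀ → (u : Ω) ∈ Q := fun {u} hu => by
    obtain ⟨n, rfl⟩ := hu
    exact ⟨n, by simp⟩
  rcases hP with rfl | hP
  · refine ⟨hQS, fun α hα => image_eq_of_mapsTo le_rfl hQS α ?_⟩
    rintro _ ⟨n, rfl⟩
    obtain ⟨k, hk⟩ := hline α hα
    beta_reduce
    rw [show (f₀ : Ω) ^ n = ((f₀ ^ n : P) : Ω) from by simp, Fusion.autFun_coe, map_zpow, hk]
    exact hmemQ (Subgroup.zpow_mem _ (Subgroup.pow_mem _ (Subgroup.mem_zpowers f₀) k) n)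
  · have hN := (hall P hP).1
    obtain ⟨-, hbP, a', -, -, -, hcomm', -, hdataP⟩ := hall P hP
    have hPS := hP.1.1
    have hZP : ∀ u : S, u ∈ Subgroup.center S → (u : Ω) ∈ P := fun u hu =>
      hP.1.2 P (Fusion.isConj_refl hPS) ⟨u.2, Subgroup.mem_centralizer_iff.mpr
        fun y hy => congrArg Subtype.val (Subgroup.mem_center_iff.mp hu ⟨y, hPS hy⟩)⟩
    have hQP : Q ≤ P := Subgroup.zpowers_le.mpr (hZP f₀ hf₀c)
    refine ⟨hQP, fun γ hγ => image_eq_of_mapsTo hPS hQP γ ?_⟩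
    suffices h0 : Fusion.autFun γ (f₀ : Ω) ∈ Q by
      rintro _ ⟨n, rfl⟩
      have h1 : ((γ ⟨(f₀ : Ω), hZP f₀ hf₀c⟩ : P) : Ω) ∈ Q := by rwa [← Fusion.autFun_of_mem γ (hZP f₀ hf₀c)]
      rw [Fusion.autFun_of_mem γ (P.zpow_mem (hZP f₀ hf₀c) n),
        show (⟨(f₀ : Ω) ^ n, P.zpow_mem (hZP f₀ hf₀c) n⟩ : P) = ⟨(f₀ : Ω), hZP f₀ hf₀c⟩ ^ n from Subtype.ext (by simp),
        map_zpow]
      simpa using Q.zpow_mem h1 n
    rw [Fusion.autFun_of_mem γ (hZP f₀ hf₀c)]
    by_cases hnn : ∀ η ∈ Cfsg.autInducedBy S P, γ * η * γ⁻¹ ∈ Cfsg.autInducedBy S P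
    · obtain ⟨ψ, hψ, hψe⟩ := ext_of_normal hS hF hP.1 hP.2.1 hN γ hγ hnn
      obtain ⟨k, hk⟩ := hline ψ hψ
      have h1 := hψe ⟨(f₀ : Ω), hZP f₀ hf₀c⟩
      rw [← h1, show (⟨(f₀ : Ω), _⟩ : S) = f₀ from rfl, hk]
      exact hmemQ (Subgroup.pow_mem _ (Subgroup.mem_zpowers f₀) k)
    · have hnn' : ¬ ∀ η ∈ Cfsg.autInducedBy S P, γ⁻¹ * η * γ⁻¹⁻¹ ∈ Cfsg.autInducedBy S P := by
        intro h
        apply hnn
        haveI := Fusion.finite_of_le hPS
        haveI := Fusion.finite_mulAut P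
        have hinj : Function.Injective fun η : Cfsg.autInducedBy S P =>
            (⟨γ⁻¹ * η * γ⁻¹⁻¹, h η η.2⟩ : Cfsg.autInducedBy S P) := fun u v huv =>
          Subtype.ext (mul_left_cancel (mul_right_cancel (congrArg Subtype.val huv)))
        intro η hη
        obtain ⟨⟨w, hw⟩, hwe⟩ := (Finite.injective_iff_surjective.mp hinj) ⟨η, hη⟩
        have h1 : γ⁻¹ * w * γ⁻¹⁻¹ = η := congrArg Subtype.val hwe
        rw [← h1, inv_inv, ← mul_assoc, ← mul_assoc, mul_inv_cancel, one_mul, mul_inv_cancel_right]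
        exact hw
      obtain ⟨f, hfE, c, δ, hδ, hc, hda, hdf, hfc, -, hindf, hfw, hboth⟩ := hdataP γ hγ hnn
      obtain ⟨f', hf'E, c', δ', hδ', hc', hda', hdf', hf'c, -, hindf', hfw', -⟩ := hdataP γ⁻¹ (inv_mem hγ) hnn'
      have hne : ∀ {g : S}, (∀ i j : ℕ, a' ^ i * g ^ j = 1 → (i : ZMod p) = 0 ∧ (j : ZMod p) = 0) → g ≠ 1 :=
        fun {g} h hg => one_ne_zero (α := ZMod p) (by simpa using (h 0 1 (by simp [hg])).2)
      have e1 := huniq a' f c δ hδ hc hcomm' hda hdf hfc (hne hindf)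
      have e2 := huniq a' f' c' δ' hδ' hc' hcomm' hda' hdf' hf'c (hne hindf')
      obtain ⟨k, hk⟩ := (isOfFinOrder_of_finite f').mem_powers_iff_mem_zpowers.mpr
        (e2.ge (Subgroup.mem_zpowers f₀))
      set fE : P := ⟨(f₀ : Ω), hZP f₀ hf₀c⟩
      have hfE' : fE = (⟨(f' : Ω), hf'E⟩ : P) ^ k := Subtype.ext (by
        show (f₀ : Ω) = _
        rw [← show f' ^ k = f₀ from hk]; simp)
      have hu1 : ((γ fE : P) : Ω) ∈ (Subgroup.center S).map S.subtype := by
        rw [hfE', map_pow, SubmonoidClass.coe_pow]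
        rw [inv_inv] at hfw'
        exact pow_mem hfw' k
      have h2 := hboth (γ fE) hu1 (by rw [MulAut.inv_apply_self]; exact ⟨f₀, hf₀c, rfl⟩)
      obtain ⟨n, hn⟩ := h2
      rw [← hn]
      show (f : Ω) ^ n ∈ Q
      exact Q.zpow_mem (hmemQ (e1.le (Subgroup.mem_zpowers f))) n

/-- The regular configuration has an invariant subgroup. -/
theorem regular_false' (hS : IsPGroup p S) (hsr : Cfsg.SectionalPRankLE p 3 S)
    (hF : F.IsSaturated p) (hO : F.core = ⊥) (hex : ∃ E, F.IsEssential p E)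
    (hall : ∀ E, F.IsEssential p E → (frattini E).index = p ^ 3 ∧ (E.subgroupOf S).index = p ∧ IsRegData p E S) :
    False := by
  classical
  have hpp := (Fact.out : p.Prime)
  obtain ⟨E₁, hE₁⟩ := hex
  have hcards : ∀ E, F.IsEssential p E → Nat.card E = Nat.card E₁ := fun E hE => by
    have h1 := (E.subgroupOf S).card_mul_index
    have h2 := (E₁.subgroupOf S).card_mul_index
    rw [(hall E hE).2.1, Nat.card_congr (Subgroup.subgroupOfEquivOfLe hE.1.1).toEquiv] at h1
    rw [(hall E₁ hE₁).2.1, Nat.card_congr (Subgroup.subgroupOfEquivOfLe hE₁.1.1).toEquiv, ← h1] at h2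
    exact (Nat.eq_of_mul_eq_mul_right hpp.pos h2).symm
  have hDle : ∀ E, F.IsEssential p E → frattini S ≤ E.subgroupOf S := fun E hE =>
    frattini_le_coatom ((PGroup.isCoatom_iff_index_eq_prime hS).mpr (hall E hE).2.1)
  have hone : ∀ A B : Subgroup S, Nat.card A = p ^ 3 → Nat.card B = p ^ 3 → (∀ u ∈ A, u ^ p = 1) →
      (∀ u ∈ B, u ^ p = 1) → (∀ u ∈ A, ∀ v ∈ A, Commute u v) → (∀ u ∈ B, ∀ v ∈ B, Commute u v) →
      (∀ u ∈ A, ∀ v ∈ B, Commute u v) → A = B := by
    intro A B hA hB hAp hBp hAc hBc hAB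
    set H := Subgroup.closure ((A : Set S) ∪ B) with hH
    have hHc : ∀ u ∈ H, ∀ v ∈ H, Commute u v := fun u hu v hv => commute_of_closure (by
      rintro x (hx | hx) y (hy | hy)
      · exact hAc x hx y hy
      · exact hAB x hx y hy
      · exact (hAB y hy x hx).symm
      · exact hBc x hx y hy) hu hv
    have hHp : ∀ u ∈ H, u ^ p = 1 := fun u hu => by
      rw [hH] at hu
      induction hu using Subgroup.closure_induction with
      | mem x hx => exact hx.elim (hAp x) (hBp x)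
      | one => exact one_pow p
      | mul x y hx hy ihx ihy => rw [(hHc x hx y hy).mul_pow, ihx, ihy, one_mul]
      | inv x _ ih => rw [inv_pow, ih, inv_one]
    have hle := rankThree_self hsr H ⊥ bot_le inferInstance
      (fun u hu v hv => by rw [Subgroup.mem_bot, commutatorElement_eq_one_iff_commute]; exact hHc u hu v hv)
      (fun u hu => by rw [Subgroup.mem_bot]; exact hHp u hu)
    rw [Subgroup.card_bot, mul_one] at hle
    have hAH : A ≤ H := fun u hu => Subgroup.subset_closure (Or.inl hu)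
    have hBH : B ≤ H := fun u hu => Subgroup.subset_closure (Or.inr hu)
    exact (Subgroup.eq_of_le_of_card_ge hAH (hA ▸ hle)).trans (Subgroup.eq_of_le_of_card_ge hBH (hB ▸ hle)).symm
  by_cases hbot : frattini E₁ = ⊥
  · -- every essential subgroup is elementary of order `p³`
    have hcard : Nat.card E₁ = p ^ 3 := by rw [← (hall E₁ hE₁).1, hbot, Subgroup.index_bot]
    obtain ⟨-, -, hdat⟩ := (hall E₁ hE₁).2.2
    obtain ⟨l, hlp, hl⟩ : ∃ l : S, l ^ p = 1 ∧
        ∀ q : S, (q : Ω) ∈ E₁ → q ∈ Subgroup.center S → q ∈ Subgroup.zpowers l := by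
      rcases hdat with ⟨-, h⟩ | ⟨U, -, hU, -, -, hUc⟩
      · exact h
      · exfalso
        rw [hbot, le_bot_iff] at hU
        rw [hU, Subgroup.card_bot] at hUc
        exact absurd hUc (Nat.one_lt_pow (by norm_num) hpp.one_lt).ne
    set A₁ := E₁.subgroupOf S
    have hA₁ : Nat.card A₁ = p ^ 3 := by
      rw [Nat.card_congr (Subgroup.subgroupOfEquivOfLe hE₁.1.1).toEquiv, hcard]
    have helem := elementary_of_bot hS hE₁.1.1 hbot
    -- any abelian subgroup of index `p` is `E₁`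
    have huniq : ∀ B : Subgroup S, B.index = p → (∀ u ∈ B, ∀ v ∈ B, Commute u v) → B = A₁ := by
      intro B hB hBc
      by_contra hne
      have hcoB := (PGroup.isCoatom_iff_index_eq_prime hS).mpr hB
      have hcoA := (PGroup.isCoatom_iff_index_eq_prime hS).mpr (hall E₁ hE₁).2.1
      have hsup : A₁ ⊔ B = ⊤ := hcoA.2 _ (lt_of_le_of_ne le_sup_left fun h => hne
        ((hcoB.le_iff.mp (h.ge.trans' le_sup_right)).resolve_left hcoA.1).symm)
      have hI : A₁ ⊓ B ≤ Subgroup.zpowers l := fun q hq => by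
        refine hl q hq.1 (Subgroup.mem_center_iff.mpr fun g => ?_)
        have hle : A₁ ⊔ B ≤ Subgroup.centralizer {q} := sup_le
          (fun w hw => Subgroup.mem_centralizer_singleton_iff.mpr (Subtype.ext (helem.1 _ hw _ hq.1)))
          (fun w hw => Subgroup.mem_centralizer_singleton_iff.mpr (hBc w hw q hq.2).eq)
        rw [hsup] at hle
        exact Subgroup.mem_centralizer_singleton_iff.mp (hle (Subgroup.mem_top g))
      have h1 : (A₁ ⊓ B).index ≤ p * p :=
        Subgroup.index_inf_le.trans (le_of_eq (by rw [(hall E₁ hE₁).2.1, hB]))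
      have h2 := (A₁ ⊓ B).card_mul_index
      have h3 : Nat.card S = p ^ 4 := by rw [← A₁.card_mul_index, hA₁, (hall E₁ hE₁).2.1]; ring
      have h4 : Nat.card (A₁ ⊓ B : Subgroup S) ≤ p := (Subgroup.card_le_of_le hI).trans (by
        rw [Nat.card_zpowers]; exact orderOf_le_of_pow_eq_one hpp.pos hlp)
      have h5 := Nat.mul_le_mul h4 h1
      rw [h2, h3] at h5
      have h6 : p * (p * p) < p ^ 4 := by
        calc p * (p * p) = p ^ 3 := by ring
          _ < p ^ 4 := Nat.pow_lt_pow_right hpp.one_lt (by norm_num)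
      omega
    refine false_of_invariant hS hF hO (Q := E₁) ?_ ?_
    · intro h
      rw [h, Subgroup.card_bot] at hcard
      exact absurd hcard (Nat.one_lt_pow (by norm_num) hpp.one_lt).ne
    rintro P (rfl | hP)
    · refine ⟨hE₁.1.1, fun α _ => image_eq_of_mapsTo le_rfl hE₁.1.1 α fun x hx => ?_⟩
      have h1 := huniq (A₁.map α.toMonoidHom) (by
          refine (Subgroup.index_map_equiv A₁ α).trans ?_
          exact (hall E₁ hE₁).2.1)
        (by
          rintro _ ⟨u, hu, rfl⟩ _ ⟨v, hv, rfl⟩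
          exact (show Commute u v from Subtype.ext (helem.1 _ hu _ hv)).map α)
      rw [Fusion.autFun_of_mem α (hE₁.1.1 hx)]
      exact h1.le ⟨⟨x, hE₁.1.1 hx⟩, hx, rfl⟩
    · have hbotP : frattini P = ⊥ := by
        haveI := Fusion.finite_of_le hP.1.1
        have h1 := (frattini P).card_mul_index
        rw [(hall P hP).1, hcards P hP, hcard] at h1
        refine Subgroup.card_eq_one.mp (Nat.eq_of_mul_eq_mul_right (pow_pos hpp.pos 3) ?_)
        rw [h1, one_mul]
      have helP := elementary_of_bot hS hP.1.1 hbotP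
      have h1 := huniq _ (hall P hP).2.1 fun u hu v hv => Subtype.ext (helP.1 _ hu _ hv)
      have heq : P = E₁ := by
        refine le_antisymm (fun u hu => ?_) fun u hu => ?_
        · exact h1.le (show (⟨u, hP.1.1 hu⟩ : S) ∈ P.subgroupOf S from hu)
        · exact h1.ge (show (⟨u, hE₁.1.1 hu⟩ : S) ∈ A₁ from hu)
      subst heq
      exact ⟨le_rfl, fun α _ => Fusion.autFun_image α⟩
  · -- the last layer
    have hdat : ∀ E, F.IsEssential p E → ∃ U : Subgroup E, U.Characteristic ∧ U ≤ frattini E ∧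
        U ≤ Subgroup.center E ∧ (∀ u ∈ U, u ^ p = 1) ∧ Nat.card U = p ^ 3 := by
      intro E hE
      rcases (hall E hE).2.2.2.2 with ⟨hb, -⟩ | h
      · exfalso
        haveI := Fusion.finite_of_le hE₁.1.1
        apply hbot
        have h1 := (frattini E₁).card_mul_index
        rw [(hall E₁ hE₁).1, ← hcards E hE] at h1
        have h2 : Nat.card E = p ^ 3 := by rw [← (hall E hE).1, hb, Subgroup.index_bot]
        rw [h2] at h1
        refine Subgroup.card_eq_one.mp (Nat.eq_of_mul_eq_mul_right (pow_pos hpp.pos 3) ?_)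
        rw [h1, one_mul]
      · exact h
    obtain ⟨U₁, hU₁c, hU₁Φ, hU₁Z, hU₁p, hU₁card⟩ := hdat E₁ hE₁
    -- the layer inside `S`
    let up : ∀ {E : Subgroup Ω}, E ≤ S → Subgroup E → Subgroup S := fun {E} h U => U.map (Subgroup.inclusion h)
    have hin : ∀ {E : Subgroup Ω} (hE : F.IsEssential p E) {U : Subgroup E}, U ≤ frattini E →
        up hE.1.1 U ≤ frattini S := by
      intro E hE U hU
      rintro _ ⟨u, hu, rfl⟩
      haveI := Fusion.finite_of_le hE.1.1
      exact frattini_map_le hS (E.subgroupOf S)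
        ((mem_frattini_subgroupOf hS hE.1.1 le_rfl _).mpr ⟨u.2, hU hu⟩)
    set W₁ := up hE₁.1.1 U₁
    have hW₁card : Nat.card W₁ = p ^ 3 := by
      rw [Subgroup.card_map_of_injective (Subgroup.inclusion_injective _), hU₁card]
    have hW₁p : ∀ u ∈ W₁, u ^ p = 1 := by
      rintro _ ⟨u, hu, rfl⟩
      rw [← map_pow, hU₁p u hu, map_one]
    have hW₁cen : ∀ u ∈ W₁, ∀ v ∈ E₁.subgroupOf S, Commute u v := by
      rintro _ ⟨u, hu, rfl⟩ v hv
      exact Subtype.ext (congrArg Subtype.val (Subgroup.mem_center_iff.mp (hU₁Z hu) ⟨v, hv⟩).symm :)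
    have hW₁D : W₁ ≤ frattini S := hin hE₁ hU₁Φ
    refine false_of_invariant hS hF hO (Q := W₁.map S.subtype) ?_ ?_
    · intro h
      have h1 := congrArg (fun H : Subgroup Ω => Nat.card H) h
      simp only [Subgroup.card_map_of_injective S.subtype_injective, hW₁card, Subgroup.card_bot] at h1
      exact absurd h1 (Nat.one_lt_pow (by norm_num) hpp.one_lt).ne'
    rintro P (rfl | hP)
    · refine ⟨Subgroup.map_subtype_le _, fun α _ => image_eq_of_mapsTo le_rfl (Subgroup.map_subtype_le _) α ?_⟩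
      rintro _ ⟨u, hu, rfl⟩
      have hD' : W₁.map α.toMonoidHom ≤ E₁.subgroupOf P := by
        rintro _ ⟨w, hw, rfl⟩
        exact hDle E₁ hE₁ (Subgroup.characteristic_iff_map_le.mp inferInstance α ⟨w, hW₁D hw, rfl⟩)
      have heq := hone (W₁.map α.toMonoidHom) W₁ (by rw [Subgroup.card_map_of_injective α.injective]; exact hW₁card)
        hW₁card (by rintro _ ⟨w, hw, rfl⟩; rw [← map_pow, hW₁p w hw, map_one]) hW₁p
        (by rintro _ ⟨w, hw, rfl⟩ _ ⟨w', hw', rfl⟩
            exact (hW₁cen w hw w' (hDle E₁ hE₁ (hW₁D hw'))).map α)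
        (fun w hw w' hw' => hW₁cen w hw w' (hDle E₁ hE₁ (hW₁D hw')))
        (fun w hw w' hw' => (hW₁cen w' hw' w (hD' hw)).symm)
      exact ⟨α u, heq.le ⟨u, hu, rfl⟩, (Fusion.autFun_coe α u).symm⟩
    · obtain ⟨U, hUc, hUΦ, hUZ, hUp, hUcard⟩ := hdat P hP
      set W := up hP.1.1 U
      have hWcen : ∀ u ∈ W, ∀ v ∈ P.subgroupOf S, Commute u v := by
        rintro _ ⟨u, hu, rfl⟩ v hv
        exact Subtype.ext (congrArg Subtype.val (Subgroup.mem_center_iff.mp (hUZ hu) ⟨v, hv⟩).symm :)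
      have hWD : W ≤ frattini S := hin hP hUΦ
      have heq : W = W₁ := hone W W₁ (by rw [Subgroup.card_map_of_injective (Subgroup.inclusion_injective _), hUcard])
        hW₁card (by rintro _ ⟨u, hu, rfl⟩; rw [← map_pow, hUp u hu, map_one]) hW₁p
        (fun u hu v hv => hWcen u hu v (hDle P hP (hWD hv)))
        (fun u hu v hv => hW₁cen u hu v (hDle E₁ hE₁ (hW₁D hv)))
        (fun u hu v hv => hWcen u hu v (hDle P hP (hW₁D hv)))
      have hQ : W₁.map S.subtype = U.map P.subtype := by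
        rw [← heq, Subgroup.map_map]
        rfl
      rw [hQ]
      exact ⟨Subgroup.map_subtype_le _, fun α _ => char_image hP.1.1 hUc α⟩

/-- A core-free saturated system of sectional rank three over a `p`-group, `p ≥ 5`, has a pearl. -/
theorem has_pearl (hp : 5 ≤ p) (hS : IsPGroup p S)
    (hsr : Cfsg.SectionalPRankLE p 3 S ∧ ¬ Cfsg.SectionalPRankLE p 2 S)
    (hF : F.IsSaturated p) (hO : F.core = ⊥) :
    ∃ E : Subgroup Ω, (F.IsEssential p E ∧ ((Cfsg.IsElementaryAbelian p E ∧ Nat.card E = p ^ 2) ∨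
      (Cfsg.IsExtraspecial p E ∧ Nat.card E = p ^ 3 ∧ ∀ x ∈ E, x ^ p = 1))) := by
  classical
  by_contra hno
  push Not at hno
  have hnp : ∀ E, F.IsEssential p E → ¬ ((Cfsg.IsElementaryAbelian p E ∧ Nat.card E = p ^ 2) ∨
      (Cfsg.IsExtraspecial p E ∧ Nat.card E = p ^ 3 ∧ ∀ x ∈ E, x ^ p = 1)) := by
    intro E hE h
    have := hno E hE
    tauto
  have hex : ∃ E, F.IsEssential p E := by
    by_contra hne
    push Not at hne
    refine false_of_invariant hS hF hO (Q := S) (fun h => hsr.2 ?_) ?_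
    · intro H N _ A _ _
      haveI : Finite H := inferInstance
      calc Nat.card A ≤ Nat.card (H ⧸ N) := Subgroup.card_le_card_group A
        _ ≤ Nat.card H := Nat.le_of_dvd Nat.card_pos (Subgroup.card_quotient_dvd_card N)
        _ ≤ Nat.card S := Subgroup.card_le_card_group H
        _ = 1 := by rw [h, Subgroup.card_bot]
        _ ≤ p ^ 2 := Nat.one_le_pow _ _ (Fact.out : p.Prime).pos
    · rintro P (rfl | hP)
      · exact ⟨le_rfl, fun α _ => Fusion.autFun_image α⟩
      · exact absurd hP (hne P)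
  by_cases h2 : ∃ E, F.IsEssential p E ∧ (frattini E).index = p ^ 2
  · obtain ⟨E₁, hE₁, hfr₁⟩ := h2
    obtain ⟨hc₁, -, hidx₁, hcen₁, hfi₁⟩ :=
      two_gen_essential hp hS hsr.1 hF hE₁ hfr₁ (card_gt_of_not_pearl hp hS hE₁ hfr₁ (hnp E₁ hE₁))
    refine false_of_invariant hS hF hO (Q := E₁) ?_ ?_
    · intro h
      rw [h, Subgroup.card_bot] at hc₁
      exact absurd hc₁ (Nat.one_lt_pow (by norm_num) (Fact.out : p.Prime).one_lt).ne
    rintro P (rfl | hP)
    · refine ⟨hE₁.1.1, fun α _ => ?_⟩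
      have hchar : (E₁.subgroupOf P).Characteristic := by rw [hcen₁]; infer_instance
      have := char_image (S := P) le_rfl hchar α
      rwa [Subgroup.map_subgroupOf_eq_of_le hE₁.1.1] at this
    · suffices heq : P = E₁ by
        subst heq
        exact ⟨le_rfl, fun α _ => Fusion.autFun_image α⟩
      rcases index_cases hS hsr.1 hP with hfr | hfr
      · obtain ⟨-, -, -, hcen, -⟩ :=
          two_gen_essential hp hS hsr.1 hF hP hfr (card_gt_of_not_pearl hp hS hP hfr (hnp P hP))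
        have h := congrArg (Subgroup.map S.subtype) (hcen.trans hcen₁.symm)
        rwa [Subgroup.map_subgroupOf_eq_of_le hP.1.1, Subgroup.map_subgroupOf_eq_of_le hE₁.1.1] at h
      · exfalso
        obtain ⟨-, hidx, htype⟩ := three_gen_essential hp hS hsr.1 hF hP hfr
        rcases htype with ⟨Φ, f, hT, -⟩ | ⟨h5, -⟩
        · rw [hT.frattini_index] at hfi₁
          exact absurd hfi₁ (not_le.mpr (Nat.pow_lt_pow_right (Fact.out : p.Prime).one_lt (by norm_num)))
        · apply h5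
          have h1 := (P.subgroupOf S).card_mul_index
          have h2 := (E₁.subgroupOf S).card_mul_index
          rw [hidx, Nat.card_congr (Subgroup.subgroupOfEquivOfLe hP.1.1).toEquiv] at h1
          rw [hidx₁, Nat.card_congr (Subgroup.subgroupOfEquivOfLe hE₁.1.1).toEquiv, hc₁, ← h1] at h2
          exact (Nat.eq_of_mul_eq_mul_right (Fact.out : p.Prime).pos h2).symm
  push Not at h2
  have h3 : ∀ E, F.IsEssential p E → (frattini E).index = p ^ 3 := fun E hE =>
    (index_cases hS hsr.1 hE).resolve_left (h2 E hE)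
  by_cases hreg : ∀ E, F.IsEssential p E → IsRegData p E S
  · exact regular_false' hS hsr.1 hF hO hex fun E hE =>
      ⟨h3 E hE, (three_gen_essential hp hS hsr.1 hF hE (h3 E hE)).2.1, hreg E hE⟩
  push Not at hreg
  obtain ⟨E₁, hE₁, hnr⟩ := hreg
  obtain ⟨-, hidx₁, htype₁⟩ := three_gen_essential hp hS hsr.1 hF hE₁ (h3 E₁ hE₁)
  obtain ⟨Φ₁, f₁, hT₁, hchar₁, -⟩ := htype₁.resolve_right hnr
  have htor : ∀ E, F.IsEssential p E → S ≤ Subgroup.normalizer (E : Set Ω) ∧
      ∃ f, TData p (E.subgroupOf S) Φ₁ f ∧ (frattini E = ⊥ → IsLineData p F E) := by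
    intro E hE
    obtain ⟨hN, -, htype⟩ := three_gen_essential hp hS hsr.1 hF hE (h3 E hE)
    rcases htype with ⟨Φ, f, hT, -, hL⟩ | ⟨-, hle, -⟩
    · rw [TData.phi_eq hS (rankThree_self hsr.1) hT₁ hT]
      exact ⟨hN, f, hT, hL⟩
    · exfalso
      rw [hT₁.frattini_index] at hle
      exact absurd hle (not_le.mpr (Nat.pow_lt_pow_right (Fact.out : p.Prime).one_lt (by norm_num)))
  set Q := Φ₁.map S.subtype
  have hQE : ∀ E, F.IsEssential p E → Q = (frattini E).map E.subtype := by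
    intro E hE
    obtain ⟨-, f, hT, -⟩ := htor E hE
    haveI := Fusion.finite_of_le hE.1.1
    ext u
    constructor
    · rintro ⟨w, hw, rfl⟩
      rw [SetLike.mem_coe, hT.eq] at hw
      obtain ⟨h, h'⟩ := (mem_frattini_subgroupOf hS hE.1.1 le_rfl w).mp hw
      exact ⟨⟨w, h⟩, h', rfl⟩
    · rintro ⟨v, hv, rfl⟩
      refine ⟨⟨v, hE.1.1 v.2⟩, ?_, rfl⟩
      rw [SetLike.mem_coe, hT.eq]
      exact (mem_frattini_subgroupOf hS hE.1.1 le_rfl _).mpr ⟨v.2, hv⟩
  by_cases hQ : Q = ⊥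
  · refine line_false hp hS hF hO hex fun E hE => ?_
    obtain ⟨hN, f, hT, hL⟩ := htor E hE
    have hb : frattini E = ⊥ := by
      have h := hQE E hE
      rw [hQ] at h
      exact (Subgroup.map_eq_bot_iff_of_injective _ E.subtype_injective).mp h.symm
    exact ⟨hN, hb, hL hb⟩
  · refine false_of_invariant hS hF hO hQ ?_
    intro P hP
    rcases hP with rfl | hP
    · refine ⟨Subgroup.map_subtype_le _, fun α _ => char_image le_rfl ?_ α⟩
      exact Subgroup.characteristic_iff_map_le.mpr fun φ => by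
        rintro _ ⟨q, hq, rfl⟩
        exact hchar₁ φ q hq
    · rw [hQE P hP]
      exact ⟨Subgroup.map_subtype_le _, fun α _ => char_image hP.1.1 inferInstance α⟩

end Cfsg.Agent.LocalEvenD.RTP
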