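import Cfsg.Agent.LocalEvenD.RankThreePearl.TwoGen

/-!
# Three-generator groups with a regular unipotent automorphism: layers of the power structure
-/

set_option autoImplicit false
set_option linter.style.haveILetI false

namespace Cfsg.Agent.LocalEvenD.RTP

open scoped commutatorElement
open Cfsg.Agent
open Cfsg.Agent.LocalEvenD.RTE

variable {P : Type*} [Group P] {p : ℕ}

/-- The subgroup generated by the `p`-th powers of a subgroup. -/
def pcl (p : ℕ) (K : Subgroup P) : Subgroup P := Subgroup.closure ((fun u => u ^ p) '' (K : Set P))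

lemma pow_mem_pcl {K : Subgroup P} {u : P} (hu : u ∈ K) : u ^ p ∈ pcl p K :=
  Subgroup.subset_closure ⟨u, hu, rfl⟩

instance pcl_characteristic (K : Subgroup P) [hK : K.Characteristic] : (pcl p K).Characteristic := by
  refine Subgroup.characteristic_iff_map_le.mpr fun φ => ?_
  rw [pcl, MonoidHom.map_closure, Subgroup.closure_le]
  rintro _ ⟨_, ⟨u, hu, rfl⟩, rfl⟩
  rw [map_pow]
  exact Subgroup.subset_closure ⟨φ u, Subgroup.characteristic_iff_map_le.mp hK φ ⟨u, hu, rfl⟩, rfl⟩

/-- The lower exponent-`p` central series. -/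
def ser (p : ℕ) : ℕ → Subgroup P
  | 0 => ⊤
  | k + 1 => nxt p (ser p k)

instance ser_characteristic : ∀ k : ℕ, (ser p k : Subgroup P).Characteristic
  | 0 => inferInstanceAs (⊤ : Subgroup P).Characteristic
  | k + 1 => by
    haveI := ser_characteristic k
    exact inferInstanceAs (nxt p (ser p k : Subgroup P)).Characteristic

lemma ser_succ_le (k : ℕ) : (ser p (k + 1) : Subgroup P) ≤ ser p k := nxt_le_self _

variable [Finite P] [Fact p.Prime]

omit [Finite P] [Fact p.Prime] in
lemma card_comap_mk (N : Subgroup P) [N.Normal] [Finite P] (K : Subgroup (P ⧸ N)) :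
    Nat.card (K.comap (QuotientGroup.mk' N)) = Nat.card K * Nat.card N := by
  have h1 := (K.comap (QuotientGroup.mk' N)).card_mul_index
  rw [Subgroup.index_comap_of_surjective _ (QuotientGroup.mk'_surjective N),
    Subgroup.card_eq_card_quotient_mul_card_subgroup N] at h1
  have h2 := K.card_mul_index
  have h3 : Nat.card (K.comap (QuotientGroup.mk' N)) * K.index = (Nat.card K * Nat.card N) * K.index := by
    rw [h1, ← h2]; ring
  exact Nat.eq_of_mul_eq_mul_right (Nat.pos_of_ne_zero K.index_ne_zero_of_finite) h3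

/-- The commutator map of the Frattini layer vanishes. -/
theorem frattini_le_pow (hp : 5 ≤ p) (hP : IsPGroup p P) (hrank : RankThree p P)
    (hirr : ∀ K : Subgroup P, K.Characteristic → frattini P ≤ K → K = frattini P ∨ K = ⊤)
    (μ : MulAut P) (e d l : P) (hd : e⁻¹ * μ e = d) (hl : d⁻¹ * μ d = l)
    (hl' : l⁻¹ * μ l ∈ frattini P) (hl1 : l ∉ frattini P)
    (hgen : ∀ q : P, ∃ i j k : ℕ, (e ^ i * d ^ j * l ^ k)⁻¹ * q ∈ frattini P) :
    frattini P ≤ pcl p (⊤ : Subgroup P) ⊔ ser p 2 := by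
  classical
  have hpp := (Fact.out : p.Prime)
  set F1 := frattini P with hF1
  have hs1 : (ser p 1 : Subgroup P) = F1 := nxt_top hP
  set J := pcl p (⊤ : Subgroup P) ⊔ ser p 2 with hJ
  have hF2J : (ser p 2 : Subgroup P) ≤ J := le_sup_right
  set π := QuotientGroup.mk' J with hπ
  have hπ1 : ∀ {q : P}, π q = 1 ↔ q ∈ J := fun {q} => QuotientGroup.eq_one_iff q
  have hexp : ∀ q : P, π q ^ p = 1 := fun q => by
    rw [← map_pow, hπ1]; exact Subgroup.mem_sup_left (pow_mem_pcl (Subgroup.mem_top q))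
  have hexp' : ∀ y : P ⧸ J, y ^ p = 1 := fun y => by
    obtain ⟨y, rfl⟩ := QuotientGroup.mk'_surjective J y
    exact hexp y
  have hF1c : ∀ {φ : P}, φ ∈ F1 → ∀ q, Commute (π φ) (π q) := fun {φ} hφ q => by
    rw [← commutatorElement_eq_one_iff_commute, ← map_commutatorElement, hπ1]
    exact hF2J (comm_mem_nxt (K := ser p 1) (hs1.ge hφ) q)
  have hc2 : commutator (P ⧸ J) ≤ Subgroup.center (P ⧸ J) := by
    refine Subgroup.commutator_le.mpr fun u _ v _ => Subgroup.mem_center_iff.mpr fun w => ?_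
    obtain ⟨u, rfl⟩ := QuotientGroup.mk'_surjective J u
    obtain ⟨v, rfl⟩ := QuotientGroup.mk'_surjective J v
    obtain ⟨w, rfl⟩ := QuotientGroup.mk'_surjective J w
    rw [← map_commutatorElement π u v]
    exact (hF1c (PGroup.comm_mem_frattini hP u v) w).symm.eq
  set W := F1.map π with hW
  -- the size of the layer
  have hcardW : Nat.card W ≤ p ^ 2 := by
    set H := F1 ⊔ Subgroup.zpowers l with hH
    have hlt : F1 < H := lt_of_le_of_ne le_sup_left fun h =>
      hl1 (h.ge (Subgroup.mem_sup_right (Subgroup.mem_zpowers l)))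
    have hJF : J ≤ F1 := sup_le ((Subgroup.closure_le _).mpr (by
        rintro _ ⟨u, -, rfl⟩; exact PGroup.pow_mem_frattini hP u))
      ((ser_succ_le 1).trans hs1.le)
    have hc : H.map π ≤ Subgroup.closure (π '' (F1 : Set P) ∪ {π l}) := by
      rw [hH, Subgroup.map_sup, MonoidHom.map_zpowers]
      refine sup_le ?_ (Subgroup.zpowers_le.mpr (Subgroup.subset_closure (Or.inr rfl)))
      rintro _ ⟨q, hq, rfl⟩
      exact Subgroup.subset_closure (Or.inl ⟨q, hq, rfl⟩)
    have h1 := hrank H J (hJF.trans hlt.le) inferInstance (fun u hu v hv => by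
      rw [← hπ1, map_commutatorElement, commutatorElement_eq_one_iff_commute]
      refine commute_of_closure ?_ (hc ⟨u, hu, rfl⟩) (hc ⟨v, hv, rfl⟩)
      rintro y (⟨q, hq, rfl⟩ | rfl) z (⟨q', hq', rfl⟩ | rfl)
      · exact hF1c hq _
      · exact hF1c hq _
      · exact (hF1c hq' _).symm
      · exact Commute.refl _)
      (fun u _ => Subgroup.mem_sup_left (pow_mem_pcl (Subgroup.mem_top u)))
    have h2 := card_mul_le' hP hlt
    have h3 : W.comap π = F1 := by rw [hW, Subgroup.comap_map_eq, QuotientGroup.ker_mk', sup_eq_left.mpr hJF]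
    have h4 : Nat.card F1 = Nat.card W * Nat.card J := by
      conv_lhs => rw [← h3]
      exact card_comap_mk J W
    rw [h4, ← mul_assoc] at h2
    have h5 : p * Nat.card W ≤ p ^ 3 := Nat.le_of_mul_le_mul_right (h2.trans h1) Nat.card_pos
    rw [pow_succ' p 2] at h5
    exact Nat.le_of_mul_le_mul_left h5 hpp.pos
  set η : MulAut (P ⧸ J) := qAut J μ with hη
  have hηm : ∀ q, η (π q) = π (μ q) := fun q => rfl
  set E := π e
  set D := π d
  set L := π l
  have hηE : η E = E * D := by rw [hηm, ← map_mul, ← hd, mul_inv_cancel_left]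
  have hηD : η D = D * L := by rw [hηm, ← map_mul, ← hl, mul_inv_cancel_left]
  obtain ⟨φl, hφl, hηL⟩ : ∃ φ ∈ F1, η L = L * π φ := ⟨_, hl', by rw [hηm, ← map_mul, mul_inv_cancel_left]⟩
  have e0 : ∀ y : P ⧸ J, ⁅π φl, y⁆ = 1 ∧ ⁅y, π φl⁆ = 1 := fun y => by
    obtain ⟨y, rfl⟩ := QuotientGroup.mk'_surjective J y
    exact ⟨commutatorElement_eq_one_iff_commute.mpr (hF1c hφl y),
      commutatorElement_eq_one_iff_commute.mpr (hF1c hφl y).symm⟩
  set c := ⁅D, L⁆ with hc
  set u := ⁅E, L⁆ with hu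
  set w := ⁅E, D⁆ with hw
  have hc' : ∀ (x y : P), ⁅π x, π y⁆ ∈ W := fun x y =>
    ⟨⁅x, y⁆, PGroup.comm_mem_frattini hP x y, map_commutatorElement π x y⟩
  have hηc : η c = c := by
    rw [hc, map_commutatorElement, hηD, hηL]
    simp only [PGroup.comm_mul_left hc2, PGroup.comm_mul_right hc2, commutatorElement_self, (e0 D).2, (e0 L).2,
      mul_one]
  have hηu : η u = u * c := by
    rw [hu, map_commutatorElement, hηE, hηL]
    simp only [PGroup.comm_mul_left hc2, PGroup.comm_mul_right hc2, (e0 E).2, (e0 D).2, mul_one]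
    rfl
  have hηw : η w = w * u * c := by
    rw [hw, map_commutatorElement, hηE, hηD]
    simp only [PGroup.comm_mul_left hc2, PGroup.comm_mul_right hc2, commutatorElement_self, one_mul]
    rfl
  have hQ : IsPGroup p (P ⧸ J) := hP.to_quotient J
  have hcu : Commute c u := PGroup.commute_comm hc2 D L u
  have hcz : ∀ n : ℤ, η (c ^ n) = c ^ n := fun n => by rw [map_zpow, hηc]
  have hc1 : c = 1 := by
    by_contra hne
    have huc : u ∉ Subgroup.zpowers c := by
      rintro ⟨n, hn⟩
      have h : η u = u := by rw [← show c ^ n = u from hn, hcz]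
      rw [hηu, mul_eq_left] at h
      exact hne h
    have hwcu : w ∉ Subgroup.zpowers c ⊔ Subgroup.zpowers u := by
      intro h
      haveI : (Subgroup.zpowers c).Normal := ⟨fun q hq g => by
        have : q ∈ Subgroup.center (P ⧸ J) :=
          Subgroup.zpowers_le.mpr (hc2 (PGroup.commutatorElement_mem_commutator D L)) hq
        rw [Subgroup.mem_center_iff.mp this g, mul_inv_cancel_right]; exact hq⟩
      obtain ⟨y, ⟨i, rfl⟩, z, ⟨j, rfl⟩, hyz⟩ := (Subgroup.mem_sup_of_normal_left).mp h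
      have h1 : η w = w * c ^ j := by
        conv_lhs => rw [← hyz, map_mul, map_zpow, map_zpow, hηc, hηu, hcu.symm.mul_zpow, ← mul_assoc]
        rw [← hyz]
      rw [hηw, mul_assoc, mul_right_inj] at h1
      exact huc ⟨j - 1, by
        show c ^ (j - 1) = u
        rw [zpow_sub, zpow_one, ← h1, mul_inv_cancel_right]⟩
    have h1 : Subgroup.zpowers c < Subgroup.zpowers c ⊔ Subgroup.zpowers u :=
      lt_of_le_of_ne le_sup_left fun h => huc (h.ge (Subgroup.mem_sup_right (Subgroup.mem_zpowers u)))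
    have h2 : Subgroup.zpowers c ⊔ Subgroup.zpowers u < W := lt_of_le_of_ne
      (sup_le (Subgroup.zpowers_le.mpr (hc' d l)) (Subgroup.zpowers_le.mpr (hc' e l)))
      fun h => hwcu (h.ge (hc' e d))
    have h3 : Nat.card (Subgroup.zpowers c) = p := by
      rw [Nat.card_zpowers, orderOf_eq_prime (hexp' c) hne]
    have h4 := card_mul_le' hQ h1
    have h5 := card_mul_le' hQ h2
    rw [h3] at h4
    have h6 : p * (p * p) ≤ p * p := by
      calc p * (p * p) ≤ p * Nat.card _ := Nat.mul_le_mul_left p h4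
        _ ≤ Nat.card W := h5
        _ ≤ p ^ 2 := hcardW
        _ = p * p := sq p
    nlinarith [hpp.two_le, Nat.mul_pos hpp.pos hpp.pos]
  rw [hc1, mul_one] at hηu hηw
  rw [hc] at hc1
  have hbl : ∀ (i j k : ℕ) {φ : P}, φ ∈ F1 → ∀ y : P ⧸ J,
      ⁅π (e ^ i * d ^ j * l ^ k * φ), y⁆ = ⁅E, y⁆ ^ i * ⁅D, y⁆ ^ j * ⁅L, y⁆ ^ k := by
    intro i j k φ hφ y
    have e1 : ⁅π φ, y⁆ = 1 := by
      obtain ⟨y, rfl⟩ := QuotientGroup.mk'_surjective J y
      exact commutatorElement_eq_one_iff_commute.mpr (hF1c hφ y)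
    simp only [map_mul, map_pow, PGroup.comm_mul_left hc2, PGroup.comm_pow_left hc2, e1, mul_one]
    rfl
  have hLD : ⁅L, D⁆ = 1 := by rw [← commutatorElement_inv, hc1, inv_one]
  by_cases hu1 : u = 1
  · -- `l` is central modulo `J`
    set R := (Subgroup.centralizer (((⊤ : Subgroup P).map π : Subgroup (P ⧸ J)) : Set (P ⧸ J))).comap π
      with hR
    have hmem : ∀ {q : P}, q ∈ R ↔ ∀ y, ⁅π q, π y⁆ = 1 := fun {q} => by
      rw [hR, Subgroup.mem_comap, Subgroup.mem_centralizer_iff]
      constructor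
      · exact fun h y => commutatorElement_eq_one_iff_commute.mpr (h _ ⟨y, Subgroup.mem_top y, rfl⟩).symm
      · rintro h _ ⟨y, -, rfl⟩
        exact (commutatorElement_eq_one_iff_commute.mp (h y)).symm.eq
    have hlR : l ∈ R := hmem.mpr fun y => by
      obtain ⟨i, j, k, hy⟩ := hgen y
      obtain ⟨φ, hφ, rfl⟩ : ∃ φ ∈ F1, e ^ i * d ^ j * l ^ k * φ = y := ⟨_, hy, mul_inv_cancel_left _ _⟩
      rw [← commutatorElement_inv, hbl i j k hφ, inv_eq_one,
        show ⁅E, π l⁆ = 1 from hu1, show ⁅D, π l⁆ = 1 from hc1]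
      simp only [show ⁅L, π l⁆ = 1 from commutatorElement_self L, one_pow, mul_one]
    have hRtop : R = ⊤ := (hirr R (characteristic_centralizer_mod ⊤ J) fun φ hφ => hmem.mpr fun y =>
      commutatorElement_eq_one_iff_commute.mpr (hF1c hφ y)).resolve_left fun h => hl1 (h ▸ hlR)
    refine hs1.ge.trans (nxt_le (fun x _ y => ?_) fun x _ => Subgroup.mem_sup_left (pow_mem_pcl (Subgroup.mem_top x)))
    rw [← hπ1, map_commutatorElement]
    exact hmem.mp (hRtop.ge (Subgroup.mem_top x)) y
  · -- the plane `⟨d, l⟩` would be characteristic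
    exfalso
    have hwu : w ∉ Subgroup.zpowers u := by
      rintro ⟨n, hn⟩
      have h : η w = w := by rw [← show u ^ n = w from hn, map_zpow, hηu]
      rw [hηw, mul_eq_left] at h
      exact hu1 h
    have crit : ∀ (i j k : ℕ) {φ : P}, φ ∈ F1 →
        (∃ t : P ⧸ J, ∀ y, ⁅π (e ^ i * d ^ j * l ^ k * φ), π y⁆ ∈ Subgroup.zpowers t) → (i : ZMod p) = 0 := by
      rintro i j k φ hφ ⟨t, ht⟩
      by_contra hi
      have hroot : ∀ v : P ⧸ J, v ^ i ∈ Subgroup.zpowers t → v ∈ Subgroup.zpowers t := fun v hv => by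
        have := Subgroup.pow_mem _ hv ((i : ZMod p)⁻¹).val
        rwa [← pow_mul, ← pow_nat_val (hexp' v), Nat.cast_mul, ZMod.natCast_zmod_val, mul_inv_cancel₀ hi,
          ZMod.val_one, pow_one] at this
      have h1 : w ∈ Subgroup.zpowers t := hroot w (by
        have := ht d
        rw [hbl i j k hφ] at this
        simpa [show ⁅L, π d⁆ = 1 from hLD, show ⁅D, π d⁆ = 1 from commutatorElement_self D] using this)
      have h2 : u ∈ Subgroup.zpowers t := hroot u (by
        have := ht l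
        rw [hbl i j k hφ] at this
        simpa [show ⁅D, π l⁆ = 1 from hc1, show ⁅L, π l⁆ = 1 from commutatorElement_self L] using this)
      have ht1 : t ≠ 1 := fun h => hu1 (by rw [h, Subgroup.zpowers_one_eq_bot, Subgroup.mem_bot] at h2; exact h2)
      refine hwu ((Subgroup.eq_of_le_of_card_ge (Subgroup.zpowers_le.mpr h2) ?_).ge h1)
      rw [Nat.card_zpowers, Nat.card_zpowers, orderOf_eq_prime (hexp' t) ht1, orderOf_eq_prime (hexp' u) hu1]
    set M := F1 ⊔ (Subgroup.zpowers d ⊔ Subgroup.zpowers l) with hM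
    have hMmem : ∀ q, (∃ t : P ⧸ J, ∀ y, ⁅π q, π y⁆ ∈ Subgroup.zpowers t) → q ∈ M := by
      intro q hq
      obtain ⟨i, j, k, h⟩ := hgen q
      obtain ⟨φ, hφ, rfl⟩ : ∃ φ ∈ F1, e ^ i * d ^ j * l ^ k * φ = q := ⟨_, h, mul_inv_cancel_left _ _⟩
      obtain ⟨n, rfl⟩ := (ZMod.natCast_eq_zero_iff i p).mp (crit i j k hφ hq)
      refine mul_mem (mul_mem (mul_mem ?_ ?_) ?_) (Subgroup.mem_sup_left hφ)
      · rw [pow_mul]; exact Subgroup.mem_sup_left (pow_mem (PGroup.pow_mem_frattini hP e) n)
      · exact Subgroup.mem_sup_right (Subgroup.mem_sup_left (Subgroup.pow_mem _ (Subgroup.mem_zpowers d) j))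
      · exact Subgroup.mem_sup_right (Subgroup.mem_sup_right (Subgroup.pow_mem _ (Subgroup.mem_zpowers l) k))
    have hMprop : ∀ q ∈ M, ∃ t : P ⧸ J, ∀ y, ⁅π q, π y⁆ ∈ Subgroup.zpowers t := by
      intro q hq
      refine ⟨⁅π q, E⁆, fun y => ?_⟩
      have h0 : ∀ x ∈ M, ⁅π x, D⁆ = 1 ∧ ⁅π x, L⁆ = 1 := by
        let R : Subgroup P :=
          ((PGroup.commHom hc2 D).comp π).ker ⊓ ((PGroup.commHom hc2 L).comp π).ker
        suffices hle : M ≤ R from fun x hx => ⟨(hle hx).1, (hle hx).2⟩
        refine sup_le (fun x hx => ⟨?_, ?_⟩) (sup_le (Subgroup.zpowers_le.mpr ⟨?_, ?_⟩)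
          (Subgroup.zpowers_le.mpr ⟨?_, ?_⟩))
        · exact commutatorElement_eq_one_iff_commute.mpr (hF1c hx d)
        · exact commutatorElement_eq_one_iff_commute.mpr (hF1c hx l)
        · exact commutatorElement_self D
        · exact hc1
        · exact hLD
        · exact commutatorElement_self L
      obtain ⟨i, j, k, h⟩ := hgen y
      obtain ⟨φ, hφ, rfl⟩ : ∃ φ ∈ F1, e ^ i * d ^ j * l ^ k * φ = y := ⟨_, h, mul_inv_cancel_left _ _⟩
      rw [← commutatorElement_inv (π (e ^ i * d ^ j * l ^ k * φ)) (π q), hbl i j k hφ,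
        ← commutatorElement_inv (π q) D, (h0 q hq).1,
        ← commutatorElement_inv (π q) L, (h0 q hq).2, inv_one, one_pow, one_pow, mul_one, mul_one,
        ← commutatorElement_inv (π q) E, inv_pow, inv_inv]
      exact Subgroup.pow_mem _ (Subgroup.mem_zpowers _) i
    have hMc : M.Characteristic := by
      refine Subgroup.characteristic_iff_map_le.mpr fun φ => ?_
      rintro _ ⟨q, hq, rfl⟩
      obtain ⟨t, ht⟩ := hMprop q hq
      refine hMmem _ ⟨qAut J φ t, fun y => ?_⟩
      obtain ⟨n, hn⟩ := ht (φ.symm y)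
      refine ⟨n, ?_⟩
      show qAut J φ t ^ n = _
      rw [← map_zpow, show t ^ n = _ from hn, map_commutatorElement, hπ, QuotientGroup.mk'_apply,
        QuotientGroup.mk'_apply, qAut_mk, qAut_mk, φ.apply_symm_apply]
      rfl
    rcases hirr M hMc le_sup_left with h | h
    · exact hl1 (h.le (Subgroup.mem_sup_right (Subgroup.mem_sup_right (Subgroup.mem_zpowers l))))
    · refine one_ne_zero (α := ZMod p) ?_
      have := crit 1 0 0 (φ := 1) (one_mem _) (by simpa using hMprop e (h.ge (Subgroup.mem_top e)))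
      simpa using this

/-- The layers of a regular three-generator group. -/
theorem regular_layers (hp : 5 ≤ p) (hP : IsPGroup p P) (hrank : RankThree p P)
    (hidx : (frattini P).index = p ^ 3)
    (hirr : ∀ K : Subgroup P, K.Characteristic → frattini P ≤ K → K = frattini P ∨ K = ⊤)
    (μ : MulAut P) (e d l : P) (hd : e⁻¹ * μ e = d) (hl : d⁻¹ * μ d = l)
    (hl' : l⁻¹ * μ l ∈ frattini P) (hl1 : l ∉ frattini P)
    (hgen : ∀ q : P, ∃ i j k : ℕ, (e ^ i * d ^ j * l ^ k)⁻¹ * q ∈ frattini P) :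
    Nat.card P ≠ p ^ 5 ∧ (frattini P = ⊥ ∨ ∃ U : Subgroup P, U.Characteristic ∧ U ≤ frattini P ∧
      U ≤ Subgroup.center P ∧ (∀ u ∈ U, u ^ p = 1) ∧ Nat.card U = p ^ 3) := by
  classical
  have hpp := (Fact.out : p.Prime)
  set F := fun k => (ser p k : Subgroup P) with hF
  have hs1 : (ser p 1 : Subgroup P) = frattini P := nxt_top hP
  have hbase : (ser p 1 : Subgroup P) ≤ pcl p (ser p 0 : Subgroup P) ⊔ ser p 2 :=
    hs1.le.trans (frattini_le_pow hp hP hrank hirr μ e d l hd hl hl' hl1 hgen)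
  have hgenk : ∀ k, (ser p (k + 1) : Subgroup P) ≤ pcl p (ser p k : Subgroup P) ⊔ ser p (k + 2) := by
    intro k
    induction k with
    | zero => exact hbase
    | succ k ih =>
      set J := pcl p (ser p (k + 1) : Subgroup P) ⊔ ser p (k + 3) with hJ
      set π := QuotientGroup.mk' J
      have hπ1 : ∀ {q : P}, π q = 1 ↔ q ∈ J := fun {q} => QuotientGroup.eq_one_iff q
      have hcen : ∀ {φ : P}, φ ∈ (ser p (k + 2) : Subgroup P) → π φ ∈ Subgroup.center (P ⧸ J) := fun {φ} hφ => by
        refine Subgroup.mem_center_iff.mpr fun w => ?_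
        obtain ⟨w, rfl⟩ := QuotientGroup.mk'_surjective J w
        refine commutatorElement_eq_one_iff_commute.mp ?_
        rw [← map_commutatorElement, hπ1]
        exact Subgroup.mem_sup_right (comm_mem_nxt' hφ w)
      have hT : (ser p (k + 1) : Subgroup P) ≤ (Subgroup.center (P ⧸ J)).comap π := by
        refine ih.trans (sup_le ((Subgroup.closure_le _).mpr ?_) fun φ hφ => hcen hφ)
        rintro _ ⟨v, hv, rfl⟩
        rw [SetLike.mem_coe, Subgroup.mem_comap, map_pow, Subgroup.mem_center_iff]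
        intro y
        obtain ⟨y, rfl⟩ := QuotientGroup.mk'_surjective J y
        refine (pow_commute (u := π v) (by omega) ?_ ?_).symm.eq
        · rw [← map_commutatorElement, ← map_pow, hπ1]
          exact Subgroup.mem_sup_left (pow_mem_pcl (comm_mem_nxt hv y))
        · rw [← map_commutatorElement, ← map_commutatorElement]
          exact hcen (comm_mem_nxt (K := ser p (k + 1)) (comm_mem_nxt hv y) v)
      refine nxt_le (fun u hu w => ?_) fun u hu => Subgroup.mem_sup_left (pow_mem_pcl hu)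
      rw [← hπ1, map_commutatorElement, commutatorElement_eq_one_iff_commute]
      exact PGroup.commute_of_mem_center (hT hu) _
  have hcen : ∀ k {φ : P}, φ ∈ (ser p k : Subgroup P) →
      QuotientGroup.mk' (ser p (k + 1)) φ ∈ Subgroup.center (P ⧸ (ser p (k + 1) : Subgroup P)) := by
    intro k φ hφ
    refine Subgroup.mem_center_iff.mpr fun w => ?_
    obtain ⟨w, rfl⟩ := QuotientGroup.mk'_surjective _ w
    refine commutatorElement_eq_one_iff_commute.mp ?_
    rw [← map_commutatorElement]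
    exact (QuotientGroup.eq_one_iff _).mpr (comm_mem_nxt' hφ w)
  have hmulp : ∀ k {u v : P}, u ∈ (ser p k : Subgroup P) → v ∈ (ser p k : Subgroup P) →
      QuotientGroup.mk' (ser p (k + 2)) ((u * v) ^ p) = QuotientGroup.mk' (ser p (k + 2)) (u ^ p * v ^ p) := by
    intro k u v hu hv
    set π := QuotientGroup.mk' (ser p (k + 2) : Subgroup P)
    have hc : ⁅v, u⁆ ∈ (ser p (k + 1) : Subgroup P) := comm_mem_nxt hv u
    have hcc := PGroup.commute_of_mem_center (hcen (k + 1) hc)
    rw [map_commutatorElement] at hcc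
    rw [map_pow, map_mul π u v, map_mul π, map_pow, map_pow]
    rw [PGroup.mul_pow_of_commute_commutator (hcc _) (hcc _)]
    obtain ⟨m, hm⟩ := hpp.dvd_choose_self two_ne_zero (show 2 < p by omega)
    rw [hm, pow_mul, ← map_commutatorElement, ← map_pow π ⁅v, u⁆ p,
      show π (⁅v, u⁆ ^ p) = 1 from (QuotientGroup.eq_one_iff _).mpr (pow_mem_nxt hc), one_pow, mul_one]
  have hlayer : ∀ k, (∀ u : P, u ^ p ^ k ∈ (ser p k : Subgroup P)) ∧
      (∀ u v : P, QuotientGroup.mk' (ser p (k + 1)) ((u * v) ^ p ^ k) =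
        QuotientGroup.mk' (ser p (k + 1)) (u ^ p ^ k * v ^ p ^ k)) ∧
      (∀ φ ∈ frattini P, φ ^ p ^ k ∈ (ser p (k + 1) : Subgroup P)) ∧
      ∀ φ ∈ (ser p k : Subgroup P), ∃ v : P, (v ^ p ^ k)⁻¹ * φ ∈ (ser p (k + 1) : Subgroup P) := by
    intro k
    induction k with
    | zero =>
      refine ⟨fun u => Subgroup.mem_top _, fun u v => by simp, fun φ hφ => ?_, fun φ _ => ⟨φ, ?_⟩⟩
      · rw [pow_zero, pow_one]; exact hs1.ge hφ
      · rw [pow_zero, pow_one, inv_mul_cancel]; exact one_mem _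
    | succ k ih =>
      obtain ⟨ih1, ih2, ih3, ih4⟩ := ih
      set π := QuotientGroup.mk' (ser p (k + 1 + 1) : Subgroup P) with hπ
      have hmem1 : ∀ u : P, u ^ p ^ (k + 1) ∈ (ser p (k + 1) : Subgroup P) := fun u => by
        rw [pow_succ, pow_mul]; exact pow_mem_nxt (ih1 u)
      have hchi : ∀ {χ : P}, χ ∈ (ser p (k + 1) : Subgroup P) → π (χ ^ p) = 1 := fun {χ} h =>
        (QuotientGroup.eq_one_iff _).mpr (pow_mem_nxt h)
      have hsub : ∀ u v : P, π ((u * v) ^ p ^ (k + 1)) = π (u ^ p ^ (k + 1) * v ^ p ^ (k + 1)) := fun u v => by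
        obtain ⟨χ, hχ, h⟩ : ∃ χ ∈ (ser p (k + 1) : Subgroup P),
            (u * v) ^ p ^ k = u ^ p ^ k * v ^ p ^ k * χ :=
          ⟨_, QuotientGroup.eq.mp (ih2 u v).symm, (mul_inv_cancel_left _ _).symm⟩
        rw [pow_succ, pow_mul, pow_mul, pow_mul, h,
          hmulp k (mul_mem (ih1 u) (ih1 v)) (ser_succ_le k hχ), map_mul, hchi hχ, mul_one, hmulp k (ih1 u) (ih1 v)]
      refine ⟨hmem1, hsub, fun φ hφ => ?_, fun φ hφ => ?_⟩
      · rw [pow_succ, pow_mul]; exact pow_mem_nxt (ih3 φ hφ)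
      · let f : P →* P ⧸ (ser p (k + 1 + 1) : Subgroup P) :=
          MonoidHom.mk' (fun u => π (u ^ p ^ (k + 1))) fun u v => by
            show π _ = π _ * π _
            rw [← map_mul]; exact hsub u v
        have hle : (ser p (k + 1) : Subgroup P) ≤ f.range.comap π := by
          refine (hgenk k).trans (sup_le ((Subgroup.closure_le _).mpr ?_) fun ψ hψ => ?_)
          · rintro _ ⟨u, hu, rfl⟩
            obtain ⟨v, hv⟩ := ih4 u hu
            refine ⟨v, ?_⟩
            show π (v ^ p ^ (k + 1)) = π (u ^ p)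
            conv_rhs => rw [show u = v ^ p ^ k * ((v ^ p ^ k)⁻¹ * u) by rw [mul_inv_cancel_left],
              hmulp k (ih1 v) (ser_succ_le k hv), map_mul, hchi hv, mul_one, ← pow_mul, ← pow_succ]
          · rw [Subgroup.mem_comap, show π ψ = 1 from (QuotientGroup.eq_one_iff _).mpr hψ]
            exact one_mem _
        obtain ⟨v, hv⟩ := hle hφ
        exact ⟨v, QuotientGroup.eq.mp hv⟩
  have hstep : ∀ k, (ser p k : Subgroup P) ≠ ⊥ →
      Nat.card (ser p k : Subgroup P) = p ^ 3 * Nat.card (ser p (k + 1) : Subgroup P) := by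
    intro k hk
    obtain ⟨h1, h2, h3, h4⟩ := hlayer k
    set π := QuotientGroup.mk' (ser p (k + 1) : Subgroup P)
    let f : P →* P ⧸ (ser p (k + 1) : Subgroup P) := MonoidHom.mk' (fun u => π (u ^ p ^ k)) fun u v => by
      show π _ = π _ * π _
      rw [← map_mul]; exact h2 u v
    have hker : ∀ {u}, u ∈ f.ker ↔ u ^ p ^ k ∈ (ser p (k + 1) : Subgroup P) := fun {u} => by
      rw [MonoidHom.mem_ker]; exact QuotientGroup.eq_one_iff _
    have hrange : f.range.comap π = ser p k := by
      ext φ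
      constructor
      · rintro ⟨v, hv⟩
        have hm := mul_mem (h1 v) (ser_succ_le k (QuotientGroup.eq.mp hv))
        rwa [mul_inv_cancel_left] at hm
      · intro hφ
        obtain ⟨v, hv⟩ := h4 φ hφ
        exact ⟨v, QuotientGroup.eq.mpr hv⟩
    have hchar : f.ker.Characteristic := by
      refine Subgroup.characteristic_iff_map_le.mpr fun φ => ?_
      rintro _ ⟨q, hq, rfl⟩
      refine hker.mpr ?_
      show φ q ^ p ^ k ∈ _
      rw [← map_pow]
      exact Subgroup.characteristic_iff_map_le.mp (ser_characteristic (k + 1)) φ ⟨_, hker.mp hq, rfl⟩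
    rcases hirr f.ker hchar (fun φ hφ => hker.mpr (h3 φ hφ)) with h | h
    · rw [← hrange, card_comap_mk, Nat.card_congr (QuotientGroup.quotientKerEquivRange f).symm.toEquiv]
      show f.ker.index * _ = _
      rw [h, hidx]
    · exfalso
      refine hk (eq_bot_of_le_nxt hP _ fun φ hφ => ?_)
      obtain ⟨v, hv⟩ := h4 φ hφ
      have hm := mul_mem (hker.mp (h.ge (Subgroup.mem_top v))) hv
      rwa [mul_inv_cancel_left] at hm
  have hex : ∃ k, (ser p k : Subgroup P) = ⊥ := by
    by_contra h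
    push Not at h
    have hdec : ∀ k, p ^ (3 * k) * Nat.card (ser p k : Subgroup P) = Nat.card P := by
      intro k
      induction k with
      | zero => simp [ser]
      | succ k ih => rw [← ih, hstep k (h k)]; ring
    have h1 := hdec (Nat.card P)
    have h2 : Nat.card P < p ^ (3 * Nat.card P) := lt_of_le_of_lt (Nat.le_mul_of_pos_left _ (by norm_num))
      (Nat.lt_pow_self hpp.one_lt)
    have h3 := Nat.le_mul_of_pos_right (p ^ (3 * Nat.card P))
      (Nat.card_pos (α := (ser p (Nat.card P) : Subgroup P)))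
    omega
  set n := Nat.find hex
  have hn : (ser p n : Subgroup P) = ⊥ := Nat.find_spec hex
  have hbelow : ∀ k < n, (ser p k : Subgroup P) ≠ ⊥ := fun k hk => Nat.find_min hex hk
  have hdec : ∀ k ≤ n, p ^ (3 * k) * Nat.card (ser p k : Subgroup P) = Nat.card P := by
    intro k hk
    induction k with
    | zero => simp [ser]
    | succ k ih => rw [← ih (by omega), hstep k (hbelow k hk)]; ring
  have hcard : Nat.card P = p ^ (3 * n) := by
    rw [← hdec n le_rfl, hn, Subgroup.card_bot, mul_one]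
  refine ⟨fun h => ?_, ?_⟩
  · rw [hcard] at h
    have := Nat.pow_right_injective hpp.two_le h
    omega
  by_cases h1 : (ser p 1 : Subgroup P) = ⊥
  · exact Or.inl (hs1.symm.trans h1)
  right
  obtain ⟨m, hm⟩ : ∃ m, n = m + 2 := ⟨n - 2, by
    by_contra h
    have hn1 : n = 0 ∨ n = 1 := by omega
    rcases hn1 with hn' | hn'
    · rw [hn'] at hn
      exact h1 (le_bot_iff.mp ((ser_succ_le 0).trans hn.le))
    · exact h1 (hn' ▸ hn)⟩
  refine ⟨ser p (m + 1), inferInstance, ?_, fun u hu => ?_, fun u hu => ?_, ?_⟩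
  · refine le_trans ?_ hs1.le
    clear hm
    induction m with
    | zero => exact le_rfl
    | succ m ih => exact (ser_succ_le _).trans ih
  · refine Subgroup.mem_center_iff.mpr fun w => ?_
    have h := comm_mem_nxt' (p := p) hu w
    rw [show nxt p (ser p (m + 1) : Subgroup P) = ser p n by rw [hm]; rfl, hn, Subgroup.mem_bot,
      commutatorElement_eq_one_iff_commute] at h
    exact h.eq
  · have h := pow_mem_nxt (p := p) hu
    rwa [show nxt p (ser p (m + 1) : Subgroup P) = ser p n by rw [hm]; rfl, hn, Subgroup.mem_bot] at h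
  · rw [hstep (m + 1) (hbelow _ (by omega)), show (ser p (m + 1 + 1) : Subgroup P) = ⊥ by
      rw [show m + 1 + 1 = n by omega]; exact hn, Subgroup.card_bot, mul_one]

end Cfsg.Agent.LocalEvenD.RTP
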