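import Cfsg.Agent.LocalEvenD.RankThreeEss.Transvec

/-!
# One step of the lower exponent-`p` central series
-/

set_option autoImplicit false
set_option linter.style.haveILetI false

namespace Cfsg.Agent.LocalEvenD.RTP

open scoped commutatorElement
open Cfsg.Agent

variable {P : Type*} [Group P] (p : ℕ)

/-- `⁅K, P⁆ ℧(K)`. -/
def nxt (K : Subgroup P) : Subgroup P := ⁅K, (⊤ : Subgroup P)⁆ ⊔ Subgroup.closure ((fun u => u ^ p) '' (K : Set P))

variable {p}

lemma comm_mem_nxt {K : Subgroup P} {u : P} (hu : u ∈ K) (w : P) : ⁅u, w⁆ ∈ nxt p K :=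
  Subgroup.mem_sup_left (Subgroup.commutator_mem_commutator hu (Subgroup.mem_top w))

lemma comm_mem_nxt' {K : Subgroup P} {u : P} (hu : u ∈ K) (w : P) : ⁅w, u⁆ ∈ nxt p K := by
  rw [← commutatorElement_inv]
  exact inv_mem (comm_mem_nxt hu w)

lemma pow_mem_nxt {K : Subgroup P} {u : P} (hu : u ∈ K) : u ^ p ∈ nxt p K :=
  Subgroup.mem_sup_right (Subgroup.subset_closure ⟨u, hu, rfl⟩)

lemma nxt_le {K N : Subgroup P} (hc : ∀ u ∈ K, ∀ w, ⁅u, w⁆ ∈ N) (hp : ∀ u ∈ K, u ^ p ∈ N) : nxt p K ≤ N :=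
  sup_le (Subgroup.commutator_le.mpr fun u hu w _ => hc u hu w)
    ((Subgroup.closure_le _).mpr (by rintro _ ⟨u, hu, rfl⟩; exact hp u hu))

lemma nxt_mono {K N : Subgroup P} (h : K ≤ N) : nxt p K ≤ nxt p N :=
  nxt_le (fun _ hu w => comm_mem_nxt (h hu) w) fun _ hu => pow_mem_nxt (h hu)

instance nxt_normal (K : Subgroup P) [hK : K.Normal] : (nxt p K).Normal := by
  unfold nxt
  haveI : (Subgroup.closure ((fun u => u ^ p) '' (K : Set P))).Normal := by
    refine ⟨fun u hu g => ?_⟩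
    induction hu using Subgroup.closure_induction with
    | mem y hy =>
      obtain ⟨v, hv, rfl⟩ := hy
      exact Subgroup.subset_closure ⟨g * v * g⁻¹, hK.conj_mem v hv g, conj_pow⟩
    | one => simp
    | mul y z _ _ hy hz => rw [show g * (y * z) * g⁻¹ = g * y * g⁻¹ * (g * z * g⁻¹) by group]; exact mul_mem hy hz
    | inv y _ hy => rw [show g * y⁻¹ * g⁻¹ = (g * y * g⁻¹)⁻¹ by group]; exact inv_mem hy
  exact Subgroup.sup_normal _ _

lemma map_nxt {Q : Type*} [Group Q] (π : P →* Q) (hπ : Function.Surjective π) (K : Subgroup P) :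
    (nxt p K).map π = nxt p (K.map π) := by
  rw [nxt, nxt, Subgroup.map_sup, Subgroup.map_commutator, Subgroup.map_top_of_surjective π hπ,
    MonoidHom.map_closure, Subgroup.coe_map, Set.image_image, Set.image_image]
  simp only [map_pow]

instance nxt_characteristic (K : Subgroup P) [hK : K.Characteristic] : (nxt p K).Characteristic := by
  refine Subgroup.characteristic_iff_map_eq.mpr fun φ => ?_
  rw [map_nxt φ.toMonoidHom φ.surjective, Subgroup.characteristic_iff_map_eq.mp hK φ]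

lemma nxt_le_self (K : Subgroup P) [hK : K.Normal] : nxt p K ≤ K :=
  nxt_le (fun u hu w => by
    rw [commutatorElement_def, show u * w * u⁻¹ * w⁻¹ = u * (w * u⁻¹ * w⁻¹) by group]
    exact mul_mem hu (hK.conj_mem _ (inv_mem hu) w)) fun _ hu => pow_mem hu p

lemma nxt_top [Finite P] [Fact p.Prime] (hP : IsPGroup p P) : nxt p (⊤ : Subgroup P) = frattini P :=
  le_antisymm (nxt_le (fun u _ w => PGroup.comm_mem_frattini hP u w) fun u _ => PGroup.pow_mem_frattini hP _)
    (PGroup.frattini_le_of_quotient (p := p)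
      (Subgroup.commutator_le.mpr fun u hu w _ => comm_mem_nxt hu w) fun u => pow_mem_nxt (Subgroup.mem_top u))

/-- A normal subgroup of a `p`-group inside its own successor is trivial. -/
lemma eq_bot_of_le_nxt [Finite P] [Fact p.Prime] (hP : IsPGroup p P) (K : Subgroup P) [K.Normal]
    (h : K ≤ nxt p K) : K = ⊥ := by
  by_contra hne
  -- a maximal normal subgroup below `K`
  obtain ⟨M, hM, hMn, hMc⟩ : ∃ M : Subgroup P, M < K ∧ M.Normal ∧ ∀ M' : Subgroup P, M'.Normal → M < M' →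
      M' ≤ K → M' = K := by
    obtain ⟨M, ⟨hM, hMn⟩, hmax⟩ := Set.Finite.exists_maximal (s := {M : Subgroup P | M < K ∧ M.Normal})
      (Set.toFinite _) ⟨⊥, lt_of_le_of_ne bot_le (Ne.symm hne), inferInstance⟩
    exact ⟨M, hM, hMn, fun M' hM' hlt hle => by
      by_contra h'
      exact hlt.not_ge (hmax ⟨lt_of_le_of_ne hle h', hM'⟩ hlt.le)⟩
  haveI := hMn
  set π := QuotientGroup.mk' M
  have hπs : Function.Surjective π := QuotientGroup.mk'_surjective M
  haveI : (K.map π).Normal := Subgroup.Normal.map inferInstance π hπs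
  have hKπ : K.map π ≠ ⊥ := fun h0 => hM.not_ge (by
    intro u hu
    have : π u ∈ K.map π := ⟨u, hu, rfl⟩
    rw [h0, Subgroup.mem_bot] at this
    exact (QuotientGroup.eq_one_iff u).mp this)
  have hQ : IsPGroup p (P ⧸ M) := hP.to_quotient M
  have hne' := PGroup.inf_center_ne_bot hQ hKπ
  obtain ⟨y, hy, hy1, hyp⟩ := PGroup.exists_mem_pow_eq_one hQ hne'
  obtain ⟨hyK, hyc⟩ := Subgroup.mem_inf.mp hy
  have hcomap : Subgroup.comap π (Subgroup.zpowers y) = K := by
    have hyN : (Subgroup.zpowers y).Normal := ⟨fun u hu g => by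
      have hc : u ∈ Subgroup.center (P ⧸ M) := Subgroup.zpowers_le.mpr hyc hu
      rw [Subgroup.mem_center_iff.mp hc g, mul_inv_cancel_right]
      exact hu⟩
    refine hMc _ (hyN.comap π) ?_ ?_
    · obtain ⟨y', rfl⟩ := hπs y
      refine lt_of_le_of_ne (fun u hu => ?_) fun h0 => hy1 ?_
      · show π u ∈ Subgroup.zpowers (π y')
        rw [show π u = 1 from (QuotientGroup.eq_one_iff u).mpr hu]
        exact one_mem _
      · have : y' ∈ M := h0.ge (Subgroup.mem_zpowers _)
        exact (QuotientGroup.eq_one_iff y').mpr this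
    · intro u hu
      have h1 : π u ∈ K.map π := Subgroup.zpowers_le.mpr hyK hu
      obtain ⟨v, hv, hvu⟩ := h1
      have h2 : v⁻¹ * u ∈ K := hM.le (QuotientGroup.eq.mp hvu)
      simpa using mul_mem hv h2
  have hle : nxt p K ≤ M := by
    refine nxt_le (fun u hu w => ?_) fun u hu => ?_
    · rw [← QuotientGroup.eq_one_iff, show ((⁅u, w⁆ : P) : P ⧸ M) = ⁅π u, π w⁆ from map_commutatorElement π u w,
        commutatorElement_eq_one_iff_commute]
      have h1 : π u ∈ Subgroup.zpowers y := hcomap.ge hu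
      exact PGroup.commute_of_mem_center (Subgroup.zpowers_le.mpr hyc h1) _
    · obtain ⟨i, hi⟩ : π u ∈ Subgroup.zpowers y := hcomap.ge hu
      rw [← QuotientGroup.eq_one_iff, show ((u ^ p : P) : P ⧸ M) = π u ^ p from map_pow π u p, ← hi,
        ← zpow_natCast, ← zpow_mul, mul_comm, zpow_mul, zpow_natCast]
      have : y ^ p = 1 := hyp
      rw [this, one_zpow]
  exact hM.not_ge (h.trans hle)

/-- Commutators with a `p`-th power: if `⁅u, w⁆ ^ p = 1` and `⁅⁅u, w⁆, u⁆` is central, then `w` commutes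
with `u ^ p`. -/
lemma pow_commute {u w : P} [Fact p.Prime] (hp : 2 < p) (hc : ⁅u, w⁆ ^ p = 1)
    (he : ⁅⁅u, w⁆, u⁆ ∈ Subgroup.center P) : Commute (u ^ p) w := by
  have h1 := PGroup.pow_mul_eq_classThree (x := w) (y := u) he p
  have h3 : ⁅⁅u, w⁆, u⁆ ^ p = 1 := by
    rw [← PGroup.commutatorElement_pow_left (PGroup.commute_of_mem_center he _), hc, commutatorElement_one_left]
  obtain ⟨k, hk⟩ := (Fact.out : p.Prime).dvd_choose_self two_ne_zero hp
  rw [hk, pow_mul, h3, one_pow, mul_one, hc, one_mul] at h1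
  exact h1

/-- If `u ^ p` commutes with `w` and `⁅⁅u, w⁆, u⁆` is central of order dividing `p`, then `⁅u, w⁆ ^ p = 1`. -/
lemma comm_pow_eq_one {u w : P} [Fact p.Prime] (hp : 2 < p) (hu : Commute (u ^ p) w)
    (he : ⁅⁅u, w⁆, u⁆ ∈ Subgroup.center P) (hep : ⁅⁅u, w⁆, u⁆ ^ p = 1) : ⁅u, w⁆ ^ p = 1 := by
  have h1 := PGroup.pow_mul_eq_classThree (x := w) (y := u) he p
  obtain ⟨k, hk⟩ := (Fact.out : p.Prime).dvd_choose_self two_ne_zero hp
  rw [hk, pow_mul, hep, one_pow, mul_one, hu.eq, mul_assoc _ w] at h1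
  exact mul_eq_right.mp h1.symm

end Cfsg.Agent.LocalEvenD.RTP
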