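import Cfsg.Agent.LocalEvenD.RankThreePearl.RegularLayers
import Cfsg.Agent.LocalEvenD.RankThreeEss.TransvecFrame

/-!
# Two subgroups of transvection type have the same Frattini subgroup
-/

set_option autoImplicit false
set_option linter.style.haveILetI false

namespace Cfsg.Agent.LocalEvenD.RTP

open scoped commutatorElement
open Cfsg.Agent
open Cfsg.Agent.LocalEvenD.RTE

variable {G : Type*} [Group G] [Finite G] {p : ℕ} [Fact p.Prime]

/-- What a subgroup of transvection type gives in the ambient group. -/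
structure TData (p : ℕ) (E₀ Φ : Subgroup G) (f : G) : Prop where
  eq : Φ = (frattini E₀).map E₀.subtype
  normal : Φ.Normal
  index : E₀.index = p
  indexΦ : Φ.index = p ^ 4
  le : Φ ≤ frattini G
  cardD : Nat.card (frattini G) = p * Nat.card Φ
  le_E : frattini G ≤ E₀
  f_mem : f ∈ E₀
  f_not : f ∉ frattini G
  pow : ∀ q : G, q ^ p ∈ Φ
  comm : ∀ g : G, (g ∈ frattini G ∨ g = f) → ∀ y, ⁅g, y⁆ ∈ Φ

/-- The data of a frame. -/
theorem tdata_of_frame (hp : 5 ≤ p) (hG : IsPGroup p G) (E₀ Φ : Subgroup G) [Φ.Normal]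
    (P : Frame p (G ⧸ Φ)) (hidx : E₀.index = p) (hΦ : Φ = (frattini E₀).map E₀.subtype)
    (hle : Φ ≤ frattini G) (hE : ∀ q : G, q ∈ E₀ ↔ P.c₁ (q : G ⧸ Φ) = 0) :
    ∃ f, TData p E₀ Φ f := by
  classical
  set π := QuotientGroup.mk' Φ with hπ
  have hπ1 : ∀ {q : G}, π q = 1 ↔ q ∈ Φ := fun {q} => QuotientGroup.eq_one_iff q
  set D := frattini G
  have hadd : ∀ (cc : G ⧸ Φ → ZMod p), (∀ v w, cc (v * w) = cc v + cc w) →
      cc 1 = 0 ∧ (∀ w, cc w⁻¹ = -cc w) := fun cc hcc => by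
    have h1 : cc 1 = 0 := by have := hcc 1 1; simpa using this
    refine ⟨h1, fun w => ?_⟩
    have := hcc w w⁻¹
    rw [mul_inv_cancel, h1] at this
    exact (neg_eq_of_add_eq_zero_right this.symm).symm
  let D' : Subgroup G :=
    { carrier := {q | P.c₁ (π q) = 0 ∧ P.c₂ (π q) = 0 ∧ P.c₄ (π q) = 0}
      one_mem' := by
        simp only [Set.mem_setOf_eq, map_one, (hadd _ P.c₁_mul).1, (hadd _ P.c₂_mul).1, (hadd _ P.c₄_mul).1,
          and_self]
      mul_mem' := fun {u v} hu hv => by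
        simp only [Set.mem_setOf_eq, map_mul, P.c₁_mul, P.c₂_mul, P.c₄_mul] at *
        simp [hu, hv]
      inv_mem' := fun {u} hu => by
        simp only [Set.mem_setOf_eq, map_inv, (hadd _ P.c₁_mul).2, (hadd _ P.c₂_mul).2,
          (hadd _ P.c₄_mul).2] at *
        simp [hu] }
  haveI : D'.Normal := ⟨fun u hu g => by
    have h : ∀ (cc : G ⧸ Φ → ZMod p), (∀ v w, cc (v * w) = cc v + cc w) →
        cc (π (g * u * g⁻¹)) = cc (π u) := fun cc hcc => by
      rw [map_mul, map_mul, map_inv, hcc, hcc, (hadd cc hcc).2]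
      ring
    exact ⟨(h _ P.c₁_mul).trans hu.1, (h _ P.c₂_mul).trans hu.2.1, (h _ P.c₄_mul).trans hu.2.2⟩⟩
  have hDD' : D ≤ D' := by
    refine PGroup.frattini_le_of_quotient (p := p) (Subgroup.commutator_le.mpr fun u _ v _ => ?_) fun g => ?_
    · have h : ∀ (cc : G ⧸ Φ → ZMod p), (∀ v w, cc (v * w) = cc v + cc w) → cc (π ⁅u, v⁆) = 0 :=
        fun cc hcc => by
          rw [map_commutatorElement, commutatorElement_def, hcc, hcc, hcc, (hadd cc hcc).2, (hadd cc hcc).2]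
          ring
      exact ⟨h _ P.c₁_mul, h _ P.c₂_mul, h _ P.c₄_mul⟩
    · show P.c₁ _ = 0 ∧ P.c₂ _ = 0 ∧ P.c₄ _ = 0
      rw [map_pow, P.exp (by omega), ← P.T_zero]
      simp
  have hD'eq : D' = (Subgroup.zpowers P.a).comap π := by
    ext q
    constructor
    · rintro ⟨e1, e2, e4⟩
      rw [Subgroup.mem_comap, ← P.T_co (π q), e1, e2, e4]
      simp only [Frame.T, ZMod.val_zero, pow_zero, one_mul, mul_one]
      exact Subgroup.pow_mem _ (Subgroup.mem_zpowers _) _
    · intro hq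
      obtain ⟨n, hn⟩ := (isOfFinOrder_of_finite P.a).mem_powers_iff_mem_zpowers.mpr (Subgroup.mem_comap.mp hq)
      show P.c₁ _ = 0 ∧ P.c₂ _ = 0 ∧ P.c₄ _ = 0
      rw [← show P.a ^ n = π q from hn, ← pow_nat_val P.hap,
        show P.a ^ (n : ZMod p).val = P.T 0 0 n 0 by simp [Frame.T]]
      simp
  obtain ⟨a, ha⟩ := QuotientGroup.mk'_surjective Φ P.a
  obtain ⟨b, hb⟩ := QuotientGroup.mk'_surjective Φ P.b
  obtain ⟨x, hx⟩ := QuotientGroup.mk'_surjective Φ P.x
  have haD : a ∈ D := by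
    have h1 : π ⁅x, b⁆ = P.a ^ P.s.val := by
      rw [map_commutatorElement, show π x = P.x from hx, show π b = P.b from hb, commutatorElement_def, P.hxb,
        mul_inv_cancel_right, (P.hba.pow_right _).eq, mul_inv_cancel_right]
    have h2 : (⁅x, b⁆ ^ P.s⁻¹.val)⁻¹ * a ∈ Φ := by
      rw [← hπ1, map_mul, map_inv, map_pow, h1, ← pow_mul, show π a = P.a from ha, ← pow_nat_val P.hap,
        Nat.cast_mul, ZMod.natCast_zmod_val, ZMod.natCast_zmod_val, mul_inv_cancel₀ P.hs, ZMod.val_one, pow_one,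
        inv_mul_cancel]
    simpa using D.mul_mem (D.pow_mem (PGroup.comm_mem_frattini hG x b) P.s⁻¹.val) (hle h2)
  have hD : D = D' := by
    refine le_antisymm hDD' fun q hq => ?_
    rw [hD'eq, Subgroup.mem_comap] at hq
    obtain ⟨n, hn⟩ := (isOfFinOrder_of_finite P.a).mem_powers_iff_mem_zpowers.mpr hq
    have h2 : (a ^ n)⁻¹ * q ∈ Φ := by
      rw [← hπ1, map_mul, map_inv, map_pow, show π a = P.a from ha, show P.a ^ n = π q from hn, inv_mul_cancel]
    simpa using D.mul_mem (D.pow_mem haD n) (hle h2)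
  have ha1 : P.a ≠ 1 := fun h => by
    rw [← P.T_a, ← P.T_zero] at h
    exact one_ne_zero (P.inj h).2.2.1
  obtain ⟨f, hf⟩ := QuotientGroup.mk'_surjective Φ P.f
  have hf' : π f = P.T 0 0 0 1 := by rw [P.T_f]; exact hf
  refine ⟨f, hΦ, inferInstance, hidx, P.card, hle, ?_, fun q hq => (hE q).mpr (hDD' hq).1,
    (hE f).mpr ?_, fun h => ?_, fun q => hπ1.mp ?_, fun g hg y => ?_⟩
  · show Nat.card D = _
    rw [hD, hD'eq, card_comap_mk, Nat.card_zpowers, orderOf_eq_prime P.hap ha1]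
  · show P.c₁ (π f) = 0
    rw [hf', P.c₁_T]
  · have := (hDD' h).2.2
    rw [hf', P.c₄_T] at this
    exact one_ne_zero this
  · rw [map_pow]; exact P.exp (by omega) _
  · rw [← hπ1, map_commutatorElement, commutatorElement_eq_one_iff_commute]
    obtain ⟨k, l, hkl⟩ : ∃ k l, π g = P.T 0 0 k l := by
      rcases hg with hg | rfl
      · obtain ⟨e1, e2, -⟩ := hDD' hg
        exact ⟨P.c₃ (π g), P.c₄ (π g), by conv_lhs => rw [← P.T_co (π g), e1, e2]⟩
      · exact ⟨0, 1, hf'⟩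
    rw [hkl, ← P.T_co (π y)]
    show _ * _ = _ * _
    rw [P.T_mul, P.T_mul]
    congr 1 <;> ring

/-- Two subgroups of transvection type have the same Frattini subgroup. -/
theorem TData.phi_eq (hG : IsPGroup p G) (hrank : RankThree p G) {E₁ Φ₁ E₂ Φ₂ : Subgroup G} {f₁ f₂ : G}
    (T₁ : TData p E₁ Φ₁ f₁) (T₂ : TData p E₂ Φ₂ f₂) : Φ₁ = Φ₂ := by
  classical
  have hpp := (Fact.out : p.Prime)
  haveI := T₁.normal
  haveI := T₂.normal
  set D := frattini G
  have hcardΦ : Nat.card Φ₁ = Nat.card Φ₂ := Nat.eq_of_mul_eq_mul_left hpp.pos (T₁.cardD.symm.trans T₂.cardD)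
  by_contra hne
  have hcomm : ∀ {E Φ : Subgroup G} {f : G}, TData p E Φ f → ∀ g g' : G,
      (g ∈ D ∨ g = f) ∨ (g' ∈ D ∨ g' = f) → ⁅g, g'⁆ ∈ Φ := fun {E Φ f} T g g' h => by
    rcases h with h | h
    · exact T.comm g h g'
    · rw [← commutatorElement_inv]; exact inv_mem (T.comm g' h g)
  set Z₁ := D ⊔ Subgroup.zpowers f₁ with hZ₁
  have hDZ : D < Z₁ := lt_of_le_of_ne le_sup_left fun h =>
    T₁.f_not (h.ge (Subgroup.mem_sup_right (Subgroup.mem_zpowers f₁)))
  by_cases hin : f₂ ∈ Z₁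
  · -- `E₂ / Φ₁` is elementary abelian
    apply hne
    set Z₂ := D ⊔ Subgroup.zpowers f₂
    have hDZ₂ : D < Z₂ := lt_of_le_of_ne le_sup_left fun h =>
      T₂.f_not (h.ge (Subgroup.mem_sup_right (Subgroup.mem_zpowers f₂)))
    have hZ₂E : Z₂ ≤ E₂ := sup_le T₂.le_E (Subgroup.zpowers_le.mpr T₂.f_mem)
    have hcardE : Nat.card E₂ = p ^ 3 * Nat.card Φ₁ := by
      have h1 := E₂.card_mul_index
      have h2 := Φ₁.card_mul_index
      rw [T₂.index] at h1
      rw [T₁.indexΦ, ← h1] at h2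
      refine Nat.eq_of_mul_eq_mul_right hpp.pos ?_
      rw [← h2]; ring
    have hup : ∀ f : G, f ^ p ∈ D → Nat.card (D ⊔ Subgroup.zpowers f : Subgroup G) ≤ p * Nat.card D := fun f hf => by
      refine le_trans (Nat.card_le_card_of_surjective
        (fun v : ZMod p × D => (⟨v.2 * f ^ v.1.val, Subgroup.mul_mem_sup v.2.2 (Subgroup.pow_mem _
          (Subgroup.mem_zpowers f) _)⟩ : (D ⊔ Subgroup.zpowers f : Subgroup G))) fun ⟨y, hy⟩ => ?_) ?_
      · obtain ⟨d, hd, z, hz, rfl⟩ := (Subgroup.mem_sup_of_normal_left (s := D)).mp hy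
        obtain ⟨n, rfl⟩ := (isOfFinOrder_of_finite f).mem_powers_iff_mem_zpowers.mpr hz
        have hh : f ^ n = (f ^ p) ^ (n / p) * f ^ (n % p) := by rw [← pow_mul, ← pow_add, Nat.div_add_mod]
        exact ⟨((n : ZMod p), ⟨d * (f ^ p) ^ (n / p), D.mul_mem hd (D.pow_mem hf _)⟩),
          Subtype.ext (by simp only [ZMod.val_natCast, hh, mul_assoc])⟩
      · rw [Nat.card_prod, Nat.card_zmod]
    have hcardZ : Nat.card Z₂ = Nat.card Z₁ := le_antisymm
      ((hup _ (T₂.le (T₂.pow f₂))).trans (card_mul_le' hG hDZ))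
      ((hup _ (T₁.le (T₁.pow f₁))).trans (card_mul_le' hG hDZ₂))
    have hZeq : Z₂ = Z₁ := Subgroup.eq_of_le_of_card_ge
      (sup_le le_sup_left (Subgroup.zpowers_le.mpr hin)) hcardZ.ge
    have hcardZ₁ : Nat.card Z₁ ≤ p ^ 2 * Nat.card Φ₁ := by
      refine (hup _ (T₁.le (T₁.pow f₁))).trans (le_of_eq ?_)
      rw [T₁.cardD]; ring
    obtain ⟨m, hm, hmZ⟩ : ∃ m ∈ E₂, m ∉ Z₁ := by
      by_contra h
      push Not at h
      have h1 := Subgroup.card_le_of_le (h : E₂ ≤ Z₁)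
      rw [hcardE] at h1
      have h2 := Nat.le_of_mul_le_mul_right (h1.trans hcardZ₁) Nat.card_pos
      exact absurd h2 (not_le.mpr (Nat.pow_lt_pow_right hpp.one_lt (by norm_num)))
    have hE₂ : E₂ = Z₁ ⊔ Subgroup.zpowers m := by
      refine (Subgroup.eq_of_le_of_card_ge (sup_le (hZeq ▸ hZ₂E) (Subgroup.zpowers_le.mpr hm)) ?_).symm
      have h1 := card_mul_le' hG (lt_of_le_of_ne (le_sup_left (a := Z₁) (b := Subgroup.zpowers m)) fun h =>
        hmZ (h.ge (Subgroup.mem_sup_right (Subgroup.mem_zpowers m))))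
      have h2 := card_mul_le' hG hDZ
      rw [hcardE]
      calc p ^ 3 * Nat.card Φ₁ = p * (p * Nat.card D) := by rw [T₁.cardD]; ring
        _ ≤ p * Nat.card Z₁ := by gcongr
        _ ≤ _ := h1
    let π := QuotientGroup.mk' Φ₁
    have hπ1 : ∀ {q : G}, π q = 1 ↔ q ∈ Φ₁ := fun {q} => QuotientGroup.eq_one_iff q
    have hc : E₂.map π ≤ Subgroup.closure (π '' (D : Set G) ∪ {π f₁, π m}) := by
      rw [hE₂, hZ₁, Subgroup.map_sup, Subgroup.map_sup, MonoidHom.map_zpowers, MonoidHom.map_zpowers]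
      refine sup_le (sup_le ?_ (Subgroup.zpowers_le.mpr (Subgroup.subset_closure (by simp))))
        (Subgroup.zpowers_le.mpr (Subgroup.subset_closure (by simp)))
      rintro _ ⟨q, hq, rfl⟩
      exact Subgroup.subset_closure (Or.inl ⟨q, hq, rfl⟩)
    have hEc : ∀ u ∈ E₂, ∀ v ∈ E₂, ⁅u, v⁆ ∈ Φ₁ := by
      intro u hu v hv
      rw [← hπ1, map_commutatorElement, commutatorElement_eq_one_iff_commute]
      refine commute_of_closure ?_ (hc ⟨u, hu, rfl⟩) (hc ⟨v, hv, rfl⟩)
      have key : ∀ g g' : G, (g ∈ D ∨ g = f₁ ∨ g = m) → (g' ∈ D ∨ g' = f₁ ∨ g' = m) → Commute (π g) (π g') := by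
        intro g g' hg hg'
        rcases eq_or_ne g g' with rfl | hne'
        · exact Commute.refl _
        rw [← commutatorElement_eq_one_iff_commute, ← map_commutatorElement, hπ1]
        apply hcomm T₁
        rcases hg with h | h | h
        · exact Or.inl (Or.inl h)
        · exact Or.inl (Or.inr h)
        rcases hg' with h' | h' | h'
        · exact Or.inr (Or.inl h')
        · exact Or.inr (Or.inr h')
        · exact absurd (h.trans h'.symm) hne'
      rintro y (⟨q, hq, rfl⟩ | rfl | rfl) z (⟨q', hq', rfl⟩ | rfl | rfl) <;>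
        exact key _ _ (by first | exact Or.inl hq | exact Or.inr (Or.inl rfl) | exact Or.inr (Or.inr rfl))
          (by first | exact Or.inl hq' | exact Or.inr (Or.inl rfl) | exact Or.inr (Or.inr rfl))
    refine (Subgroup.eq_of_le_of_card_ge ?_ hcardΦ.le).symm
    rw [T₂.eq, Subgroup.map_le_iff_le_comap]
    refine PGroup.frattini_le_of_quotient (p := p) (Subgroup.commutator_le.mpr fun u _ v _ => ?_) fun u => ?_
    · rw [Subgroup.mem_comap, map_commutatorElement]
      exact hEc _ u.2 _ v.2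
    · rw [Subgroup.mem_comap, map_pow]
      exact T₁.pow _
  · -- an elementary section of rank four
    set H := Z₁ ⊔ Subgroup.zpowers f₂ with hH
    have hZH : Z₁ < H := lt_of_le_of_ne le_sup_left fun h =>
      hin (h.ge (Subgroup.mem_sup_right (Subgroup.mem_zpowers _)))
    haveI : (Φ₁ ⊓ Φ₂).Normal := Subgroup.normal_inf_normal _ _
    have hAΦ : Φ₁ ⊓ Φ₂ < Φ₁ := lt_of_le_of_ne inf_le_left fun h =>
      hne (Subgroup.eq_of_le_of_card_ge (h.symm.le.trans inf_le_right) hcardΦ.ge)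
    let αA := QuotientGroup.mk' (Φ₁ ⊓ Φ₂)
    have hα : ∀ {q : G}, αA q = 1 ↔ q ∈ Φ₁ ∧ q ∈ Φ₂ := fun {q} => QuotientGroup.eq_one_iff q
    have hc : H.map αA ≤ Subgroup.closure (αA '' (D : Set G) ∪ {αA f₁, αA f₂}) := by
      rw [hH, hZ₁, Subgroup.map_sup, Subgroup.map_sup, MonoidHom.map_zpowers, MonoidHom.map_zpowers]
      refine sup_le (sup_le ?_ (Subgroup.zpowers_le.mpr (Subgroup.subset_closure (by simp))))
        (Subgroup.zpowers_le.mpr (Subgroup.subset_closure (by simp)))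
      rintro _ ⟨q, hq, rfl⟩
      exact Subgroup.subset_closure (Or.inl ⟨q, hq, rfl⟩)
    have hcm : ∀ u ∈ H, ∀ v ∈ H, ⁅u, v⁆ ∈ Φ₁ ⊓ Φ₂ := by
      intro u hu v hv
      rw [← QuotientGroup.eq_one_iff]
      show αA ⁅u, v⁆ = 1
      rw [map_commutatorElement, commutatorElement_eq_one_iff_commute]
      refine commute_of_closure ?_ (hc ⟨u, hu, rfl⟩) (hc ⟨v, hv, rfl⟩)
      have key : ∀ g g' : G, (g ∈ D ∨ g = f₁ ∨ g = f₂) → (g' ∈ D ∨ g' = f₁ ∨ g' = f₂) →
          Commute (αA g) (αA g') := by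
        intro g g' hg hg'
        rcases eq_or_ne g g' with rfl | hne'
        · exact Commute.refl _
        rw [← commutatorElement_eq_one_iff_commute, ← map_commutatorElement, hα]
        refine ⟨hcomm T₁ g g' ?_, hcomm T₂ g g' ?_⟩
        all_goals rcases hg with h | h | h <;> rcases hg' with h' | h' | h' <;>
          first
          | exact Or.inl (Or.inl h)
          | exact Or.inl (Or.inr h)
          | exact Or.inr (Or.inl h')
          | exact Or.inr (Or.inr h')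
          | exact absurd (h.trans h'.symm) hne'
      rintro y (⟨q, hq, rfl⟩ | rfl | rfl) z (⟨q', hq', rfl⟩ | rfl | rfl) <;>
        exact key _ _ (by first | exact Or.inl hq | exact Or.inr (Or.inl rfl) | exact Or.inr (Or.inr rfl))
          (by first | exact Or.inl hq' | exact Or.inr (Or.inl rfl) | exact Or.inr (Or.inr rfl))
    have hfin := hrank H (Φ₁ ⊓ Φ₂) ((inf_le_left.trans T₁.le).trans (hDZ.le.trans hZH.le)) inferInstance hcm
      (fun u _ => ⟨T₁.pow u, T₂.pow u⟩)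
    have h1 := card_mul_le' hG hAΦ
    have h3 := card_mul_le' hG hDZ
    have h4 := card_mul_le' hG hZH
    have h5 : p ^ 4 * Nat.card (Φ₁ ⊓ Φ₂ : Subgroup G) ≤ p ^ 3 * Nat.card (Φ₁ ⊓ Φ₂ : Subgroup G) := by
      calc _ = p * (p * (p * (p * Nat.card (Φ₁ ⊓ Φ₂ : Subgroup G)))) := by ring
        _ ≤ p * (p * (p * Nat.card Φ₁)) := by gcongr
        _ = p * (p * Nat.card D) := by rw [T₁.cardD]
        _ ≤ p * Nat.card Z₁ := by gcongr
        _ ≤ Nat.card H := h4
        _ ≤ _ := hfin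
    exact absurd (Nat.le_of_mul_le_mul_right h5 Nat.card_pos)
      (not_le.mpr (Nat.pow_lt_pow_right hpp.one_lt (by norm_num)))

/-- The index of the Frattini subgroup in the transvection case. -/
theorem TData.frattini_index {E Φ : Subgroup G} {f : G} (T : TData p E Φ f) :
    (frattini G).index = p ^ 3 := by
  have h1 := (frattini G).card_mul_index
  have h2 := Φ.card_mul_index
  rw [T.indexΦ, ← h1, T.cardD] at h2
  refine Nat.eq_of_mul_eq_mul_left (Nat.mul_pos (Fact.out : p.Prime).pos (Nat.card_pos (α := Φ))) ?_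
  rw [← h2]; ring

end Cfsg.Agent.LocalEvenD.RTP
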