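import Cfsg.Agent.LocalEvenD.RankThreePearl.GLExtra
import Cfsg.Agent.LocalEvenD.RankThreePearl.TorusCommon
import Cfsg.Agent.LocalEvenD.RankThreeEss.Setup

/-!
# The types of essential subgroups in sectional rank three
-/

set_option autoImplicit false
set_option linter.style.haveILetI false

namespace Cfsg.Agent.LocalEvenD.RTP

open scoped commutatorElement
open Cfsg.Agent
open Cfsg.Agent.LocalEvenD.RTE
open Cfsg.FusionSystem (normalizerIn centralizerIn)

section Generic

variable {p : ℕ} [Fact p.Prime]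

lemma hirr_equiv {A B : Type*} [Group A] [Group B] [Finite A] (hA : IsPGroup p A) (e : A ≃* B)
    (h : ∀ K : Subgroup B, K.Characteristic → frattini B ≤ K → K = frattini B ∨ K = ⊤)
    (K : Subgroup A) (hK : K.Characteristic) (hle : frattini A ≤ K) : K = frattini A ∨ K = ⊤ := by
  have h1 : (K.map e.toMonoidHom).Characteristic := by
    refine Subgroup.characteristic_iff_map_le.mpr fun φ => ?_
    rintro _ ⟨_, ⟨u, hu, rfl⟩, rfl⟩
    refine ⟨(e.trans φ).trans e.symm u, Subgroup.characteristic_iff_map_le.mp hK _ ⟨u, hu, rfl⟩, ?_⟩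
    simp
  have h2 : frattini B ≤ K.map e.toMonoidHom := fun q hq => by
    refine ⟨e.symm q, hle ((apply_mem_frattini_iff hA e).mp ?_), e.apply_symm_apply q⟩
    rwa [e.apply_symm_apply]
  rcases h _ h1 h2 with h | h
  · left
    refine le_antisymm (fun u hu => (apply_mem_frattini_iff hA e).mp ?_) hle
    rw [← h]
    exact ⟨u, hu, rfl⟩
  · right
    refine eq_top_iff.mpr fun u _ => ?_
    obtain ⟨v, hv, hvu⟩ := h.ge (Subgroup.mem_top (e u))
    rwa [← e.injective hvu]

end Generic

variable {Ω : Type*} [Group Ω] {S : Subgroup Ω} [Finite S] {p : ℕ} [Fact p.Prime] {F : Cfsg.FusionSystem S}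

/-- Extension to `S` of an automorphism of a normal essential subgroup. -/
theorem ext_of_normal (hS : IsPGroup p S) (hF : F.IsSaturated p) {E : Subgroup Ω} (hc : F.IsCentric E)
    (hEn : F.IsFullyNormalized E) (hN : S ≤ Subgroup.normalizer (E : Set Ω)) (β : MulAut E)
    (hβ : β ∈ F.autGroup E) (hnorm : ∀ γ ∈ Cfsg.autInducedBy S E, β * γ * β⁻¹ ∈ Cfsg.autInducedBy S E) :
    ∃ ψ ∈ F.autGroup S, ∀ q : E, ((ψ ⟨q, hc.1 q.2⟩ : S) : Ω) = (β q : E) := by
  have hES := hc.1
  have hiso := (Fusion.mem_autGroup hES).mp hβ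
  have hr := Fusion.receptive_of_fullyCentralized hS hF (Fusion.fullyCentralized_of_fullyNormalized hS hF hEn)
  have hSN : ∀ {g : Ω}, g ∈ S → g ∈ normalizerIn S E := fun hg => ⟨hg, hN hg⟩
  have hM : Fusion.IsExtendable S E (Fusion.autFun β) S := by
    refine ⟨le_rfl, fun g hg => ⟨hN hg, ?_⟩⟩
    have h1 := hnorm (Fusion.conjAutHom S E ⟨g, hSN hg⟩) (by rw [← Fusion.range_conjAutHom]; exact ⟨_, rfl⟩)
    obtain ⟨h, hh, hhx⟩ := Fusion.mem_autInducedBy.mp h1
    refine ⟨h, hh, fun r hr => ?_⟩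
    have := hhx (β ⟨r, hr⟩)
    rw [MulAut.mul_apply, MulAut.mul_apply, MulAut.inv_apply_self] at this
    rw [Fusion.autFun_of_mem _ (Fusion.conj_mem_of_mem_normalizer (hN hg) hr), Fusion.autFun_of_mem _ hr]
    exact this
  obtain ⟨f', hf', he'⟩ := Fusion.receptive_extend hr hiso hM
  have hfS : Fusion.IsMap F S f' := hf'.mono le_sup_right
  have him : f' '' (E : Set Ω) = (E : Set Ω) := (Set.image_congr he').trans hiso.2
  have hmem : ∀ g ∈ S, f' g ∈ S := fun g hg =>
    (Fusion.map_mem_normalizer hf' le_sup_left him (le_sup_right (a := E) hg) (hN hg)).1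
  have hisoS : Fusion.IsIso F S S f' := by
    refine ⟨hfS, Set.ext fun y => ⟨?_, fun hy => Fusion.surjOn_of_card_le le_rfl hfS.injOn hmem le_rfl y hy⟩⟩
    rintro ⟨g, hg, rfl⟩
    exact hmem g hg
  refine ⟨hisoS.equiv, hisoS.equiv_mem_autGroup, fun q => ?_⟩
  rw [hisoS.equiv_apply, he' q.2, Fusion.autFun_of_mem _ q.2]

/-- The outer automorphism group acting on the Frattini quotient. -/
theorem outer_setup (hS : IsPGroup p S) (hF : F.IsSaturated p) {E : Subgroup Ω} (hE : F.IsEssential p E) :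
    ∃ (_ : ((Cfsg.Inn E).subgroupOf (F.autGroup E)).Normal)
      (ρ : (F.autGroup E ⧸ (Cfsg.Inn E).subgroupOf (F.autGroup E)) →* MulAut (E ⧸ frattini E))
      (T : Sylow p (F.autGroup E ⧸ (Cfsg.Inn E).subgroupOf (F.autGroup E)))
      (θ : normalizerIn S E →* (F.autGroup E ⧸ (Cfsg.Inn E).subgroupOf (F.autGroup E))),
      Function.Injective ρ ∧
      (∀ (γ : F.autGroup E) (q : E), ρ (QuotientGroup.mk' _ γ) (q : E ⧸ frattini E) =
        (((γ : MulAut E) q : E) : E ⧸ frattini E)) ∧
      (∀ β : F.autGroup E, QuotientGroup.mk' _ β ∈ T.toSubgroup ↔ (β : MulAut E) ∈ Cfsg.autInducedBy S E) ∧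
      T.toSubgroup ≠ ⊥ ∧ Cfsg.IsStronglyPEmbedded p (Subgroup.closure (Fusion.linkSet T.toSubgroup)) ∧
      θ.range = T.toSubgroup ∧ θ.ker = E.subgroupOf (normalizerIn S E) ∧
      ∀ (g : normalizerIn S E) (q : E),
        ρ (θ g) (q : E ⧸ frattini E) = ((Fusion.conjAutHom S E g q : E) : E ⧸ frattini E) := by
  classical
  obtain ⟨hc, hEn, hnI, MX, hMX⟩ := hE
  haveI := hnI
  have hES := hc.1
  haveI := Fusion.finite_of_le hES
  haveI := Fusion.finite_mulAut E
  have hEp : IsPGroup p E := hS.to_le hES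
  set I := (Cfsg.Inn E).subgroupOf (F.autGroup E)
  let ρ₀ : F.autGroup E →* MulAut (E ⧸ frattini E) := (fAct E).comp (F.autGroup E).subtype
  have hinn : I ≤ ρ₀.ker := by
    intro γ hγ
    obtain ⟨a, ha⟩ := Subgroup.mem_subgroupOf.mp hγ
    refine MulEquiv.ext fun v => ?_
    induction v using QuotientGroup.induction_on with
    | H q =>
      show fAct E (γ : MulAut E) _ = _
      rw [← ha, fAct_mk, MulAut.one_apply, MulAut.conj_apply, QuotientGroup.mk_mul, QuotientGroup.mk_mul,
        QuotientGroup.mk_inv]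
      letI : CommGroup (E ⧸ frattini E) := fratComm hEp
      exact mul_inv_cancel_comm _ _
  let ρ : (F.autGroup E ⧸ I) →* MulAut (E ⧸ frattini E) := QuotientGroup.lift I ρ₀ hinn
  have hρ : ∀ γ : F.autGroup E, ρ (QuotientGroup.mk' I γ) = fAct E (γ : MulAut E) := fun γ => rfl
  have hinj : Function.Injective ρ := by
    rw [← MonoidHom.ker_eq_bot_iff]
    refine Fusion.eq_bot_of_spe hMX inferInstance ?_
    have hk : IsPGroup p ρ₀.ker :=
      (fAct_ker_isPGroup hEp).comap_of_injective _ (Subgroup.subtype_injective _)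
    refine (hk.map (QuotientGroup.mk' I)).to_le fun u hu => ?_
    obtain ⟨γ, rfl⟩ := QuotientGroup.mk'_surjective I u
    exact ⟨γ, hu, rfl⟩
  obtain ⟨T, hT⟩ := Fusion.exists_outSylow hS hF hEn
  have hEltS : E < S := lt_of_le_of_ne hES fun h => by
    subst h
    haveI : Finite (MulAut E) := Fusion.finite_mulAut E
    have hA := Fusion.fullyAutomized_of_fullyNormalized hS hF (Fusion.fullyNormalized_self (F := F))
    obtain ⟨R, hR⟩ := hA.2
    rw [Fusion.autInducedBy_self_eq_inn] at hR
    have hd := (LocalEven61.dvd_card_of_spe hMX).trans (Subgroup.card_subgroup_dvd_card MX)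
    exact R.not_dvd_index (hR ▸ (hd : p ∣ I.index))
  have hTne := Fusion.outSylow_ne_bot hS hEltS hc hT
  have hspe : Cfsg.IsStronglyPEmbedded p (Subgroup.closure (Fusion.linkSet T.toSubgroup)) :=
    Fusion.spe_closure_linkSet T hTne (Fusion.closure_linkSet_ne_top T hMX)
  let θ : normalizerIn S E →* F.autGroup E ⧸ I := (QuotientGroup.mk' I).comp
    ((Fusion.conjAutHom S E).codRestrict (F.autGroup E) fun g =>
      Fusion.autInducedBy_le_autGroup hES (by rw [← Fusion.range_conjAutHom]; exact ⟨g, rfl⟩))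
  have hθT : θ.range = T.toSubgroup := by
    ext u
    obtain ⟨γ, rfl⟩ := QuotientGroup.mk'_surjective I u
    rw [hT]
    constructor
    · rintro ⟨g, hg⟩
      rw [← hT, ← hg]
      exact (hT _).mpr ((Fusion.range_conjAutHom S E).le ⟨g, rfl⟩)
    · intro h
      rw [← Fusion.range_conjAutHom] at h
      obtain ⟨g, hg⟩ := h
      exact ⟨g, congrArg (QuotientGroup.mk' I) (Subtype.ext hg)⟩
  have hθker : θ.ker = E.subgroupOf (normalizerIn S E) := by
    ext g
    rw [MonoidHom.mem_ker, Subgroup.mem_subgroupOf]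
    show ((⟨Fusion.conjAutHom S E g, _⟩ : F.autGroup E) : F.autGroup E ⧸ I) = 1 ↔ _
    rw [QuotientGroup.eq_one_iff, Subgroup.mem_subgroupOf]
    exact ⟨mem_of_conj_inn hc g, fun h => Fusion.mem_inn.mpr ⟨g, h, fun _ => rfl⟩⟩
  exact ⟨hnI, ρ, T, θ, hinj, fun γ q => by rw [hρ, fAct_mk], hT, hTne, hspe, hθT, hθker, fun g q => rfl⟩

/-- Two-generator essential subgroups of order above `p³`. -/
theorem two_gen_essential (hp : 5 ≤ p) (hS : IsPGroup p S) (hsr : Cfsg.SectionalPRankLE p 3 S)
    (hF : F.IsSaturated p) {E : Subgroup Ω} (hE : F.IsEssential p E) (hfr : (frattini E).index = p ^ 2)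
    (hbig : p ^ 3 < Nat.card E) :
    Nat.card E = p ^ 5 ∧ S ≤ Subgroup.normalizer (E : Set Ω) ∧ (E.subgroupOf S).index = p ∧
      E.subgroupOf S = Subgroup.centralizer ((Subgroup.upperCentralSeries S 2 : Subgroup S) : Set S) ∧
      (frattini S).index ≤ p ^ 2 := by
  classical
  have hES := hE.1.1
  haveI := Fusion.finite_of_le hES
  haveI := Fusion.finite_mulAut E
  have hNS : normalizerIn S E ≤ S := Fusion.normalizerIn_le S E
  have hEN : E ≤ normalizerIn S E := Fusion.le_normalizerIn hES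
  haveI := Fusion.finite_of_le hNS
  have hEp : IsPGroup p E := hS.to_le hES
  obtain ⟨hnI, ρ, T, θ, hinj, hρ, hT, hTne, hspe, hθT, hθker, hθρ⟩ := outer_setup hS hF hE
  haveI := hnI
  letI : CommGroup (E ⧸ frattini E) := fratComm hEp
  obtain ⟨hTp, hirrV⟩ := two_dim (ρ := ρ) (P := T.toSubgroup) hinj (fun v => by
      induction v using QuotientGroup.induction_on with
      | H q => exact (QuotientGroup.eq_one_iff _).mpr (PGroup.pow_mem_frattini hEp q))
    hfr T.isPGroup' hTne (fun N hN hNp => Fusion.eq_bot_of_spe hspe hN hNp)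
  set E₀ := E.subgroupOf (normalizerIn S E)
  have hidx : E₀.index = p := by rw [← hTp, ← hθT, ← Subgroup.index_ker, hθker]
  haveI hE₀n : E₀.Normal := PGroup.normal_of_index_eq_prime (hS.to_le hNS) hidx
  let ι : E₀ ≃* E := Subgroup.subgroupOfEquivOfLe hEN
  have hE₀p : IsPGroup p E₀ := (hS.to_le hNS).to_subgroup _
  have hirrE : ∀ K : Subgroup E, K.Characteristic → frattini E ≤ K → K = frattini E ∨ K = ⊤ := by
    intro K hK hle
    have hπ : K = (K.map (QuotientGroup.mk' (frattini E))).comap (QuotientGroup.mk' (frattini E)) := by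
      rw [Subgroup.comap_map_eq, QuotientGroup.ker_mk', sup_eq_left.mpr hle]
    rcases hirrV (K.map (QuotientGroup.mk' (frattini E))) (fun u v hv => by
      obtain ⟨w, hw, rfl⟩ := hv
      obtain ⟨γ, rfl⟩ := QuotientGroup.mk'_surjective _ u
      exact ⟨(γ : MulAut E) w, Subgroup.characteristic_iff_map_le.mp hK _ ⟨w, hw, rfl⟩, (hρ γ w).symm⟩) with h | h
    · left; rw [hπ, h, MonoidHom.comap_bot, QuotientGroup.ker_mk']
    · right; rw [hπ, h, Subgroup.comap_top]
  obtain ⟨z, hz, hz1⟩ := T.toSubgroup.bot_or_exists_ne_one.resolve_left hTne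
  obtain ⟨x, hxz⟩ : z ∈ θ.range := by rw [hθT]; exact hz
  have hmov : ∃ q : E₀, q⁻¹ * (MulAut.conjNormal x : MulAut E₀) q ∉ frattini E₀ := by
    by_contra h
    push Not at h
    apply hz1
    apply hinj
    rw [map_one, ← hxz]
    refine MulEquiv.ext fun v => ?_
    induction v using QuotientGroup.induction_on with
    | H q =>
      rw [hθρ, MulAut.one_apply]
      refine (QuotientGroup.eq.mpr ?_).symm
      have h1 := (apply_mem_frattini_iff hE₀p ι).mpr (h (ι.symm q))
      rw [map_mul, map_inv, ι.apply_symm_apply] at h1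
      convert h1 using 3
      exact Subtype.ext rfl
  have hcE : Nat.card E₀ = Nat.card E := Nat.card_congr ι.toEquiv
  rcases two_gen_case hp (hS.to_le hNS) E₀ (rankThree_subgroupOf hsr hNS) hidx
    (by rw [frattini_index_equiv hE₀p ι, hfr]) (hirr_equiv hE₀p ι hirrE) x hmov with h | ⟨h5, hcen, hfi⟩
  · exact absurd (hcE ▸ h) (not_le.mpr hbig)
  have hchar : E₀.Characteristic := by
    rw [hcen]; infer_instance
  -- `N_S(E)` is all of `S`
  have hNeq : normalizerIn S E = S := by
    by_contra hne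
    obtain ⟨g, hg, hgN⟩ := SetLike.exists_of_lt (Fusion.lt_normalizerIn hS (lt_of_le_of_ne hNS hne))
    refine hgN ⟨hg.1, Subgroup.mem_normalizer_iff.mpr fun y => ?_⟩
    have h1 := Subgroup.characteristic_iff_map_eq.mp hchar
      (Fusion.conjAutHom S (normalizerIn S E) ⟨g, hg⟩)
    constructor
    · intro hy
      exact h1.le ⟨⟨y, hEN hy⟩, hy, rfl⟩
    · intro hy
      obtain ⟨u, hu, hue⟩ := h1.ge (show (⟨g * y * g⁻¹, hEN hy⟩ : normalizerIn S E) ∈ E₀ from hy)
      have : g * (u : Ω) * g⁻¹ = g * y * g⁻¹ := congrArg Subtype.val hue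
      rw [← mul_left_cancel (mul_right_cancel this)]
      exact hu
  have key : ∀ N : Subgroup Ω, N = normalizerIn S E → (E.subgroupOf N).index = p ∧
      E.subgroupOf N = Subgroup.centralizer ((Subgroup.upperCentralSeries N 2 : Subgroup N) : Set N) ∧
      (frattini N).index ≤ p ^ 2 := by
    rintro N rfl
    exact ⟨hidx, hcen, hfi⟩
  obtain ⟨k1, k2, k3⟩ := key S hNeq.symm
  exact ⟨hcE ▸ h5, hNeq.ge.trans inf_le_right, k1, k2, k3⟩

/-- A three-generator essential subgroup of transvection type, once it is elementary. -/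
def IsLineData (p : ℕ) (F : Cfsg.FusionSystem S) (E : Subgroup Ω) : Prop :=
  ∃ a : S, a ≠ 1 ∧ (a : Ω) ∈ E ∧ a ∈ Subgroup.center S ∧ commutator S = Subgroup.zpowers a ∧
    (∃ γ ∈ F.autGroup E, ¬ ∀ η ∈ Cfsg.autInducedBy S E, γ * η * γ⁻¹ ∈ Cfsg.autInducedBy S E) ∧
    ∀ γ ∈ F.autGroup E, (¬ ∀ η ∈ Cfsg.autInducedBy S E, γ * η * γ⁻¹ ∈ Cfsg.autInducedBy S E) →
      ∃ (f : S) (hf : (f : Ω) ∈ E) (c : ℕ) (δ : MulAut S), δ ∈ F.autGroup S ∧ (c : ZMod p) ≠ 1 ∧
        δ a = a ^ c ∧ δ f = f ∧ f ∈ Subgroup.center S ∧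
        (∀ u ∈ Subgroup.center S, ∃ i j : ℕ, u = a ^ i * f ^ j) ∧
        (∀ i j : ℕ, a ^ i * f ^ j = 1 → (i : ZMod p) = 0 ∧ (j : ZMod p) = 0) ∧
        (((γ⁻¹ ⟨f, hf⟩ : E) : Ω) ∈ (Subgroup.center S).map S.subtype) ∧
        ∀ u : E, (u : Ω) ∈ (Subgroup.center S).map S.subtype →
          ((γ⁻¹ u : E) : Ω) ∈ (Subgroup.center S).map S.subtype → (u : Ω) ∈ Subgroup.zpowers (f : Ω)

/-- A three-generator essential subgroup of regular type. -/
def IsRegData (p : ℕ) (E : Subgroup Ω) (S : Subgroup Ω) : Prop :=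
  Nat.card E ≠ p ^ 5 ∧ (frattini S).index ≤ p ^ 2 ∧
    ((frattini E = ⊥ ∧ ∃ l : S, l ^ p = 1 ∧
        ∀ q : S, (q : Ω) ∈ E → q ∈ Subgroup.center S → q ∈ Subgroup.zpowers l) ∨
      ∃ U : Subgroup E, U.Characteristic ∧ U ≤ frattini E ∧ U ≤ Subgroup.center E ∧
        (∀ u ∈ U, u ^ p = 1) ∧ Nat.card U = p ^ 3)

/-- The two types of three-generator essential subgroups. -/
theorem three_gen_essential (hp : 5 ≤ p) (hS : IsPGroup p S) (hsr : Cfsg.SectionalPRankLE p 3 S)
    (hF : F.IsSaturated p) {E : Subgroup Ω} (hE : F.IsEssential p E) (hfr : (frattini E).index = p ^ 3) :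
    S ≤ Subgroup.normalizer (E : Set Ω) ∧ (E.subgroupOf S).index = p ∧
      ((∃ Φ f, TData p (E.subgroupOf S) Φ f ∧ (∀ φ : MulAut S, ∀ q ∈ Φ, φ q ∈ Φ) ∧
          (frattini E = ⊥ → IsLineData p F E)) ∨ IsRegData p E S) := by
  classical
  have hES := hE.1.1
  haveI := Fusion.finite_of_le hES
  haveI := Fusion.finite_mulAut E
  have hN := essential_rank_three_normal hp hS hsr hF hE hfr
  refine ⟨hN, ?_⟩
  have hEp : IsPGroup p E := hS.to_le hES
  obtain ⟨hnI, ρ, T, θ, hinj, hρ, hT, hTne, hspe, hθT, hθker, hθρ⟩ := outer_setup hS hF hE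
  haveI := hnI
  letI : CommGroup (E ⧸ frattini E) := fratComm hEp
  set M := Subgroup.closure (Fusion.linkSet T.toSubgroup)
  have C : Ctx p ρ M T.toSubgroup :=
    { inj := hinj
      exp := fun v => by
        induction v using QuotientGroup.induction_on with
        | H q => exact (QuotientGroup.eq_one_iff _).mpr (PGroup.pow_mem_frattini hEp q)
      card := hfr
      odd := by omega
      nle := LocalEven61.normalizersLE_of_spe hspe
      cic := LocalEven61.conjInterCoprime_of_normalizersLE (LocalEven61.normalizersLE_of_spe hspe)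
      ne_top := hspe.2.1
      le := fun t ht => by
        rcases eq_or_ne t 1 with rfl | ht1
        · exact M.one_mem
        · exact Subgroup.subset_closure ⟨t, ht, ht1, by simpa using ht⟩
      isP := T.isPGroup'
      max := fun Q hQ hTQ => T.is_maximal' hQ hTQ
      ne_bot := hTne }
  let toN : S →* normalizerIn S E := Subgroup.inclusion (le_inf le_rfl hN)
  set E₀ := E.subgroupOf S
  let ι : E₀ ≃* E := Subgroup.subgroupOfEquivOfLe hES
  have hE₀p : IsPGroup p E₀ := hS.to_subgroup _
  have htoN : Function.Surjective toN := fun g => ⟨⟨g, g.2.1⟩, rfl⟩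
  have hidx : E₀.index = p := by
    have h1 : E₀ = (E.subgroupOf (normalizerIn S E)).comap toN := rfl
    rw [h1, Subgroup.index_comap_of_surjective _ htoN, ← hθker, Subgroup.index_ker, hθT, C.card_eq]
  refine ⟨hidx, ?_⟩
  haveI hE₀n : E₀.Normal := PGroup.normal_of_index_eq_prime hS hidx
  obtain ⟨z, hz, hz1⟩ := T.toSubgroup.bot_or_exists_ne_one.resolve_left hTne
  obtain ⟨x', hxz'⟩ : z ∈ θ.range := by rw [hθT]; exact hz
  obtain ⟨x, rfl⟩ := htoN x'
  have hx : (x : Ω) ∉ E := fun h => hz1 (by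
    rw [← hxz', ← MonoidHom.mem_ker, hθker]; exact h)
  have hρx : ∀ q : E, ρ z (q : E ⧸ frattini E) =
      ((Fusion.conjAutHom S E (toN x) q : E) : E ⧸ frattini E) := fun q => by
    rw [← hxz', hθρ]
  let up : E → S := fun q => ⟨q, hES q.2⟩
  have hconj : ∀ q : E, up (Fusion.conjAutHom S E (toN x) q) = x * up q * x⁻¹ := fun q => rfl
  have hmemΦ : ∀ {q : S} (h : (q : Ω) ∈ E), (⟨q, h⟩ : E) ∈ frattini E →
      q ∈ (frattini E₀).map E₀.subtype := fun {q} h hq =>
    (mem_frattini_subgroupOf hS hES le_rfl q).mpr ⟨h, hq⟩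
  have hTz := C.eq_zpowers hz hz1
  rcases C.trichotomy hz hz1 with ⟨a₁, h₁, Tr⟩ | ⟨e₁, d₁, l₁, he, hd, hzl, hl1, hgen, hfix⟩
  · -- transvection type
    left
    obtain ⟨a, rfl⟩ := QuotientGroup.mk_surjective a₁
    -- an element of the system from a torus
    have hext : ∀ (k : F.autGroup E ⧸ (Cfsg.Inn E).subgroupOf (F.autGroup E)) (c : ZMod p),
        k * z * k⁻¹ = z ^ (c * c).val →
        ∃ β : F.autGroup E, QuotientGroup.mk' _ β = k ∧ ∃ δ ∈ F.autGroup S,
          (∀ q : E, δ (up q) = up ((β : MulAut E) q)) ∧ (x ^ (c * c).val)⁻¹ * δ x ∈ E₀ := by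
      intro k c hkz
      obtain ⟨β, rfl⟩ := QuotientGroup.mk'_surjective _ k
      refine ⟨β, rfl, ?_⟩
      obtain ⟨δ, hδ, hδE⟩ := ext_of_normal hS hF hE.1 hE.2.1 hN β β.2 fun γ hγ => by
        have h1 := (hT ⟨γ, Fusion.autInducedBy_le_autGroup hES hγ⟩).mpr hγ
        have h2 : QuotientGroup.mk' _ β * QuotientGroup.mk' _ ⟨γ, Fusion.autInducedBy_le_autGroup hES hγ⟩ *
            (QuotientGroup.mk' _ β)⁻¹ ∈ T.toSubgroup := by
          rw [hTz.2] at h1 ⊢
          obtain ⟨n, hn⟩ := h1
          rw [← hn, ← conj_zpow, hkz]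
          exact ⟨(c * c).val * n, by show z ^ _ = _; rw [zpow_mul, zpow_natCast]⟩
        rw [← map_inv, ← map_mul, ← map_mul] at h2
        exact (hT _).mp h2
      refine ⟨δ, hδ, fun q => Subtype.ext (hδE q), ?_⟩
      have hδE' : ∀ (q : S) (hq : (q : Ω) ∈ E), δ q = up ((β : MulAut E) ⟨q, hq⟩) := fun q hq =>
        Subtype.ext (hδE ⟨q, hq⟩)
      -- `δ x` acts as `β z β⁻¹`
      have h3 : θ (toN ((x ^ (c * c).val)⁻¹ * δ x)) = 1 := by
        have h4 : θ (toN (δ x)) = QuotientGroup.mk' _ β * z * (QuotientGroup.mk' _ β)⁻¹ := by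
          apply hinj
          refine MulEquiv.ext fun v => ?_
          induction v using QuotientGroup.induction_on with
          | H q =>
            obtain ⟨r, rfl⟩ := (β : MulAut E).surjective q
            have hinvβ : ρ (QuotientGroup.mk' _ β)⁻¹ (((β : MulAut E) r : E) : E ⧸ frattini E) = (r : E ⧸ frattini E) := by
              apply (ρ (QuotientGroup.mk' _ β)).injective
              rw [← MulAut.mul_apply, ← map_mul, mul_inv_cancel, map_one, MulAut.one_apply, hρ]
            rw [hθρ, map_mul, map_mul, MulAut.mul_apply, MulAut.mul_apply, hinvβ, hρx, hρ]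
            congr 1
            refine Subtype.ext ?_
            rw [Fusion.conjAutHom_apply]
            have h5 := hδE' (x * up r * x⁻¹) (Fusion.conjAutHom S E (toN x) r).2
            rw [map_mul, map_mul, map_inv, hδE' (up r) r.2] at h5
            exact congrArg Subtype.val h5
        rw [map_mul, map_inv, map_pow, map_mul, map_inv, map_pow, h4, hxz', hkz, inv_mul_cancel]
      rw [← MonoidHom.mem_ker, hθker] at h3
      exact h3
    obtain ⟨g₀, hg₀⟩ := C.exists_not_mem
    obtain ⟨b₁, f₁, s, hs, haz, hfz, hbz, hgen, -, -, -, -, htor⟩ := torus_at C hz Tr hg₀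
    obtain ⟨c, hc0, hc1, hc2, hc3, -⟩ := exists_weight (p := p) hp
    obtain ⟨k, hka, hkb, hkf, hkz⟩ := htor c hc0
    obtain ⟨β, rfl, δ, hδ, hδq, hδx⟩ := hext k c hkz
    obtain ⟨b, rfl⟩ := QuotientGroup.mk_surjective b₁
    obtain ⟨f, rfl⟩ := QuotientGroup.mk_surjective f₁
    rw [hρx] at haz hfz hbz
    rw [hρ] at hka hkb hkf
    have hmk : ∀ {u v : E}, (u : E ⧸ frattini E) = v → (up u)⁻¹ * up v ∈ (frattini E₀).map E₀.subtype :=
      fun {u v} h => hmemΦ (q := (up u)⁻¹ * up v) (E.mul_mem (E.inv_mem u.2) v.2) (QuotientGroup.eq.mp h)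
    obtain ⟨Φ, hΦn, P, κ, hΦeq, hΦG, -, hchar, hEiff, -⟩ := transvec_frame hp hS (rankThree_of_le hsr le_rfl)
      E₀ hidx (by rw [frattini_index_equiv hE₀p ι, hfr]) x (up a) (up b) (up f) s hs
      (fun h => hx (Subgroup.mem_subgroupOf.mp h)) a.2 b.2 f.2
      (fun q hq => by
        obtain ⟨i, j, n, h⟩ := hgen ((⟨q, Subgroup.mem_subgroupOf.mp hq⟩ : E) : E ⧸ frattini E)
        refine ⟨i, j, n, (up a ^ i * up b ^ j * up f ^ n)⁻¹ * q, ?_, by rw [mul_inv_cancel_left]⟩
        have h' := hmk (u := a ^ i * b ^ j * f ^ n) (v := ⟨q, Subgroup.mem_subgroupOf.mp hq⟩) h.symm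
        convert h' using 2
        all_goals first | rfl | exact Subtype.ext rfl)
      (by rw [← hconj]; exact hmk haz.symm) (by rw [← hconj]; exact hmk hfz.symm)
      (by
        have h' := hmk (u := b * a ^ s) (v := Fusion.conjAutHom S E (toN x) b) hbz.symm
        rw [hconj] at h'
        convert h' using 3
        all_goals first | rfl | exact Subtype.ext rfl)
      c hc0 hc1 hc2 hc3 δ
      (fun q hq => by
        have h := hδq ⟨q, Subgroup.mem_subgroupOf.mp hq⟩
        rw [show up ⟨q, Subgroup.mem_subgroupOf.mp hq⟩ = q from rfl] at h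
        rw [h, Subgroup.mem_subgroupOf]
        exact Subtype.mem _)
      (by
        rw [hδq]
        have h' := hmk (u := a ^ c.val) (v := (β : MulAut E) a) hka.symm
        convert h' using 3
        all_goals first | rfl | exact Subtype.ext rfl)
      (by
        rw [hδq]
        have h' := hmk (u := b ^ c⁻¹.val) (v := (β : MulAut E) b) hkb.symm
        convert h' using 3
        all_goals first | rfl | exact Subtype.ext rfl)
      (by rw [hδq]; exact hmk hkf.symm) hδx
    obtain ⟨f₀, hTD⟩ := tdata_of_frame hp hS E₀ Φ P hidx hΦeq hΦG hEiff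
    refine ⟨Φ, f₀, hTD, hchar, fun hbot => ?_⟩
    clear hka hkb hkf hδx hδq hTD hEiff hchar hgen hfz
    -- now `E` is elementary abelian
    have hmk1 : ∀ {u v : E}, (u : E ⧸ frattini E) = v → u = v := fun {u v} h => by
      have := QuotientGroup.eq.mp h
      rw [hbot, Subgroup.mem_bot, inv_mul_eq_one] at this
      exact this
    have hEc : ∀ u v : E, u * v = v * u := fun u v => by
      apply hmk1
      rw [QuotientGroup.mk_mul, QuotientGroup.mk_mul, mul_comm]
    have hpow : ∀ u : E, u ^ p = 1 := fun u => hmk1 (by rw [QuotientGroup.mk_pow, C.exp, QuotientGroup.mk_one])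
    have hsplit : ∀ R : Subgroup S, (∀ q : E, up q ∈ R) → x ∈ R → R = ⊤ := fun R hER hxR =>
      ((PGroup.isCoatom_iff_index_eq_prime hS).mpr hidx).2 R (lt_of_le_of_ne
        (fun q hq => hER ⟨q, Subgroup.mem_subgroupOf.mp hq⟩) fun h => hx (Subgroup.mem_subgroupOf.mp (h.ge hxR)))
    -- fixed points of `z` are central
    have hfixc : ∀ q : E, ρ z (q : E ⧸ frattini E) = q ↔ up q ∈ Subgroup.center S := fun q => by
      rw [hρx]
      constructor
      · intro h
        have h1 := hconj q
        rw [hmk1 h] at h1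
        have h2 : Subgroup.centralizer {up q} = ⊤ := hsplit _
          (fun w => Subgroup.mem_centralizer_singleton_iff.mpr (congrArg up (hEc w q) :))
          (Subgroup.mem_centralizer_singleton_iff.mpr (eq_mul_inv_iff_mul_eq.mp h1).symm)
        exact Subgroup.mem_center_iff.mpr fun g =>
          Subgroup.mem_centralizer_singleton_iff.mp (h2.ge (Subgroup.mem_top g))
      · intro h
        congr 1
        refine Subtype.ext ?_
        have h1 := hconj q
        rw [Subgroup.mem_center_iff.mp h x, mul_inv_cancel_right] at h1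
        exact (congrArg Subtype.val h1 :)
    have hac : up a ∈ Subgroup.center S := (hfixc a).mp (Tr.fix _ Tr.mem)
    have ha1 : up a ≠ 1 := fun h => Tr.cne (by
      rw [show a = 1 from Subtype.ext (congrArg Subtype.val h :), QuotientGroup.mk_one])
    have hcomm : commutator S = Subgroup.zpowers (up a) := by
      refine le_antisymm ?_ (Subgroup.zpowers_le.mpr ?_)
      · haveI hZn : (Subgroup.zpowers (up a)).Normal := ⟨fun u hu g => by
          rw [Subgroup.mem_center_iff.mp (Subgroup.zpowers_le.mpr hac hu) g, mul_inv_cancel_right]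
          exact hu⟩
        let π := QuotientGroup.mk' (Subgroup.zpowers (up a))
        refine Subgroup.commutator_le.mpr fun u _ v _ => ?_
        rw [← QuotientGroup.eq_one_iff]
        show π ⁅u, v⁆ = 1
        rw [map_commutatorElement, commutatorElement_eq_one_iff_commute]
        have hgens : ∀ w, π w ∈ Subgroup.closure (π '' (E₀ : Set S) ∪ {π x}) := fun w => by
          refine (hsplit ((Subgroup.closure (π '' (E₀ : Set S) ∪ {π x})).comap π)
            (fun q => Subgroup.subset_closure (Or.inl ⟨up q, q.2, rfl⟩))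
            (Subgroup.subset_closure (Or.inr rfl))).ge (Subgroup.mem_top w)
        refine commute_of_closure ?_ (hgens u) (hgens v)
        have hxq : ∀ q ∈ E₀, Commute (π x) (π q) := fun q hq => by
          obtain ⟨n, hn⟩ := Tr.move ((⟨q, Subgroup.mem_subgroupOf.mp hq⟩ : E) : E ⧸ frattini E)
          simp only [dsp, hρx] at hn
          rw [← QuotientGroup.mk_inv, ← QuotientGroup.mk_mul, ← QuotientGroup.mk_zpow] at hn
          have h1 : q⁻¹ * (x * q * x⁻¹) ∈ Subgroup.zpowers (up a) := by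
            refine ⟨n, ?_⟩
            have h2 := congrArg Subtype.val (hmk1 hn)
            exact Subtype.ext (by simpa [up, toN, Subgroup.inclusion] using h2)
          have h3 : π (x * q * x⁻¹) = π q := (QuotientGroup.eq.mpr h1).symm
          rw [map_mul, map_mul, map_inv, mul_inv_eq_iff_eq_mul] at h3
          exact h3
        rintro y (⟨q, hq, rfl⟩ | rfl) w (⟨q', hq', rfl⟩ | rfl)
        · exact (show Commute q q' from (congrArg up
            (hEc ⟨q, Subgroup.mem_subgroupOf.mp hq⟩ ⟨q', Subgroup.mem_subgroupOf.mp hq'⟩) :)).map π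
        · exact (hxq q hq).symm
        · exact hxq q' hq'
        · exact Commute.refl _
      · have h1 : up (Fusion.conjAutHom S E (toN x) b) = up b * up a ^ s := by
          have := hmk1 (u := Fusion.conjAutHom S E (toN x) b) (v := b * a ^ s) (by
            rw [QuotientGroup.mk_mul, QuotientGroup.mk_pow]
            exact hbz)
          rw [this]
          exact Subtype.ext (by simp [up])
        have h2 : up a ^ s ∈ commutator S := by
          have h3 : up a ^ s = (up b)⁻¹ * ⁅x, up b⁆ * up b := by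
            rw [commutatorElement_def]
            rw [hconj] at h1
            rw [h1]; group
          rw [h3]
          simpa using (inferInstance : (commutator S).Normal).conj_mem _
            (PGroup.commutatorElement_mem_commutator x (up b)) (up b)⁻¹
        have hap : up a ^ p = 1 := Subtype.ext (by simpa [up] using congrArg Subtype.val (hpow a))
        have h4 := Subgroup.pow_mem _ h2 ((s : ZMod p)⁻¹).val
        rwa [← pow_mul, ← pow_nat_val hap, Nat.cast_mul, ZMod.natCast_zmod_val, mul_inv_cancel₀ hs, ZMod.val_one,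
          pow_one] at h4
    have hMnorm : ∀ γ : F.autGroup E, QuotientGroup.mk' _ γ ∈ M →
        ∀ η ∈ Cfsg.autInducedBy S E, (γ : MulAut E) * η * (γ : MulAut E)⁻¹ ∈ Cfsg.autInducedBy S E := by
      intro γ hγ η hη
      have hle : M ≤ Subgroup.normalizer (T.toSubgroup : Set _) := by
        refine (Subgroup.closure_le _).mpr ?_
        rintro g ⟨t, ht, ht1, hgt⟩
        refine Subgroup.mem_normalizer_iff.mpr fun y => ?_
        have hmap : T.toSubgroup.map (MulAut.conj g).toMonoidHom = T.toSubgroup := by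
          refine Subgroup.eq_of_le_of_card_ge ?_ (by rw [Subgroup.card_map_of_injective (MulAut.conj g).injective])
          rw [(C.eq_zpowers ht ht1).2, MonoidHom.map_zpowers, Subgroup.zpowers_le, ← (C.eq_zpowers ht ht1).2]
          exact hgt
        constructor
        · exact fun hy => hmap.le ⟨y, hy, rfl⟩
        · intro hy
          obtain ⟨w, hw, hwy⟩ := hmap.ge hy
          rwa [← mul_left_cancel (mul_right_cancel (show g * w * g⁻¹ = g * y * g⁻¹ from hwy))]
      have h1 := (hT ⟨η, Fusion.autInducedBy_le_autGroup hES hη⟩).mpr hη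
      have h2 := (Subgroup.mem_normalizer_iff.mp (hle hγ) _).mp h1
      rw [← map_inv, ← map_mul, ← map_mul] at h2
      exact (hT _).mp h2
    refine ⟨up a, ha1, a.2, hac, hcomm, ?_, fun γ hγ hnn => ?_⟩
    · obtain ⟨γ₀, hγ₀⟩ := QuotientGroup.mk'_surjective _ g₀
      refine ⟨γ₀, γ₀.2, fun h => hg₀ ?_⟩
      rw [← hγ₀]
      refine Subgroup.subset_closure ⟨z, hz, hz1, ?_⟩
      obtain ⟨η, hη⟩ := QuotientGroup.mk'_surjective _ z
      rw [← hη, ← map_inv, ← map_mul, ← map_mul]
      exact (hT _).mpr (h η ((hT η).mp (hη ▸ hz)))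
    · have hgM : QuotientGroup.mk' _ (⟨γ, hγ⟩ : F.autGroup E) ∉ M := fun h => hnn (hMnorm ⟨γ, hγ⟩ h)
      obtain ⟨b₂, f₂, s₂, -, -, hfz₂, -, -, hf'mem, hfa, hwf, hboth, htor₂⟩ := torus_at C hz Tr hgM
      obtain ⟨k₂, hka₂, -, hkf₂, hkz₂⟩ := htor₂ c hc0
      obtain ⟨β₂, rfl, δ₂, hδ₂, hδ₂q, -⟩ := hext k₂ c hkz₂
      obtain ⟨f', rfl⟩ := QuotientGroup.mk_surjective f₂
      obtain ⟨b', rfl⟩ := QuotientGroup.mk_surjective b₂
      rw [hρ] at hka₂ hkf₂
      have hfc := (hfixc f').mp hfz₂
      have hconjw : ∀ u : E, ρ (QuotientGroup.mk' _ (⟨γ, hγ⟩ : F.autGroup E) * z *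
          (QuotientGroup.mk' _ (⟨γ, hγ⟩ : F.autGroup E))⁻¹) (u : E ⧸ frattini E) = u ↔
          up (γ⁻¹ u) ∈ Subgroup.center S := fun u => by
        set gq := QuotientGroup.mk' ((Cfsg.Inn E).subgroupOf (F.autGroup E)) (⟨γ, hγ⟩ : F.autGroup E) with hgq
        have h1 : ρ gq⁻¹ (u : E ⧸ frattini E) = ((γ⁻¹ u : E) : E ⧸ frattini E) := by
          rw [hgq, ← map_inv, hρ]
          rfl
        rw [← hfixc, ← h1, map_mul, map_mul, MulAut.mul_apply, MulAut.mul_apply]
        constructor
        · intro h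
          have h2 := congrArg (ρ gq⁻¹) h
          rwa [← MulAut.mul_apply, ← map_mul, inv_mul_cancel, map_one, MulAut.one_apply] at h2
        · intro h
          rw [h, ← MulAut.mul_apply, ← map_mul, mul_inv_cancel, map_one, MulAut.one_apply]
      have hZ : ∀ u ∈ Subgroup.center S, ∃ i j : ℕ, u = up a ^ i * up f' ^ j := by
        intro u hu
        have huE : (u : Ω) ∈ E := hE.1.2 E (Fusion.isConj_refl hES) ⟨u.2, Subgroup.mem_centralizer_iff.mpr
          fun y hy => congrArg Subtype.val (Subgroup.mem_center_iff.mp hu ⟨y, hES hy⟩)⟩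
        have h1 := (hfixc ⟨u, huE⟩).mpr hu
        obtain ⟨i', j', h4⟩ := decomp_two C.exp Tr.card Tr.mem hf'mem Tr.cne hfa
          (Tr.mem_of_fix C.inj C.exp C.card h1)
        rw [← QuotientGroup.mk_pow, ← QuotientGroup.mk_pow, ← QuotientGroup.mk_mul] at h4
        exact ⟨i', j', Subtype.ext (by simpa [up] using congrArg Subtype.val (hmk1 h4))⟩
      have hind : ∀ i j : ℕ, up a ^ i * up f' ^ j = 1 → (i : ZMod p) = 0 ∧ (j : ZMod p) = 0 := by
        intro i j h
        have h' : (a : E ⧸ frattini E) ^ i * (f' : E ⧸ frattini E) ^ j = 1 := by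
          rw [← QuotientGroup.mk_pow, ← QuotientGroup.mk_pow, ← QuotientGroup.mk_mul,
            show a ^ i * f' ^ j = 1 from Subtype.ext (by simpa [up] using congrArg Subtype.val h),
            QuotientGroup.mk_one]
        have hj : (j : ZMod p) = 0 := by
          by_contra hj
          apply hfa
          have h2 : (f' : E ⧸ frattini E) ^ j ∈ Subgroup.zpowers (a : E ⧸ frattini E) := by
            rw [eq_inv_of_mul_eq_one_right h']
            exact inv_mem (Subgroup.pow_mem _ (Subgroup.mem_zpowers _) i)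
          have h3 := Subgroup.pow_mem _ h2 ((j : ZMod p)⁻¹).val
          rwa [← pow_mul, pow_cast C.exp _ (n := 1) (by
            push_cast; rw [ZMod.natCast_zmod_val, mul_inv_cancel₀ hj]), pow_one] at h3
        refine ⟨?_, hj⟩
        rw [pow_cast C.exp _ (m := j) (n := 0) (by rw [hj, Nat.cast_zero]), pow_zero, mul_one] at h'
        have h4 := orderOf_dvd_of_pow_eq_one h'
        rw [orderOf_eq_prime (C.exp _) Tr.cne] at h4
        exact (ZMod.natCast_eq_zero_iff i p).mpr h4
      have hcast : ((c.val : ℕ) : ZMod p) ≠ 1 := by rw [ZMod.natCast_zmod_val]; exact hc1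
      refine ⟨up f', f'.2, c.val, δ₂, hδ₂, hcast, ?_, ?_, hfc, hZ, hind,
        ⟨up (γ⁻¹ f'), (hconjw f').mp hwf, rfl⟩, fun u hu hu' => ?_⟩
      · rw [hδ₂q]
        exact Subtype.ext (by simpa [up] using congrArg Subtype.val (hmk1 (u := (β₂ : MulAut E) a) (v := a ^ c.val)
          (by rw [hka₂, QuotientGroup.mk_pow])))
      · rw [hδ₂q]
        exact congrArg up (hmk1 hkf₂)
      · obtain ⟨u₁, hu₁, hu₁e⟩ := hu
        obtain ⟨u₂, hu₂, hu₂e⟩ := hu'
        have h1 : up u ∈ Subgroup.center S := by rwa [show up u = u₁ from Subtype.ext hu₁e.symm]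
        have h2 : up (γ⁻¹ u) ∈ Subgroup.center S := by rwa [show up (γ⁻¹ u) = u₂ from Subtype.ext hu₂e.symm]
        obtain ⟨n, hn⟩ := exists_pow_eq C.exp (hboth _ ((hfixc u).mpr h1) ((hconjw u).mpr h2))
        rw [← QuotientGroup.mk_pow] at hn
        rw [congrArg Subtype.val (hmk1 hn)]
        exact Subgroup.pow_mem _ (Subgroup.mem_zpowers (f' : Ω)) n
  · -- regular type
    right
    obtain ⟨e, rfl⟩ := QuotientGroup.mk_surjective e₁
    set dl := e⁻¹ * Fusion.conjAutHom S E (toN x) e with hdl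
    have hdd : d₁ = (dl : E ⧸ frattini E) := by rw [← he, dsp, hρx]; rfl
    set ll := dl⁻¹ * Fusion.conjAutHom S E (toN x) dl with hll
    have hll' : l₁ = (ll : E ⧸ frattini E) := by rw [← hd, dsp, hdd, hρx]; rfl
    subst hdd hll'
    have hirrE : ∀ K : Subgroup E, K.Characteristic → frattini E ≤ K → K = frattini E ∨ K = ⊤ := by
      intro K hK hle
      have hπ : K = (K.map (QuotientGroup.mk' (frattini E))).comap (QuotientGroup.mk' (frattini E)) := by
        rw [Subgroup.comap_map_eq, QuotientGroup.ker_mk', sup_eq_left.mpr hle]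
      rcases C.irreducible hz hz1 he hd hzl hl1 hgen hfix (K.map (QuotientGroup.mk' (frattini E))) (fun u v hv => by
        obtain ⟨w, hw, rfl⟩ := hv
        obtain ⟨γ, rfl⟩ := QuotientGroup.mk'_surjective _ u
        exact ⟨(γ : MulAut E) w, Subgroup.characteristic_iff_map_le.mp hK _ ⟨w, hw, rfl⟩, (hρ γ w).symm⟩) with h | h
      · left; rw [hπ, h, MonoidHom.comap_bot, QuotientGroup.ker_mk']
      · right; rw [hπ, h, Subgroup.comap_top]
    have hl' : ll⁻¹ * Fusion.conjAutHom S E (toN x) ll ∈ frattini E :=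
      QuotientGroup.eq.mp (by rw [← hρx]; exact hzl.symm)
    have hl1' : ll ∉ frattini E := fun h => hl1 ((QuotientGroup.eq_one_iff _).mpr h)
    obtain ⟨h5, hU⟩ := regular_layers hp hEp (rankThree_of_le hsr hES) hfr hirrE
      (Fusion.conjAutHom S E (toN x)) e dl ll rfl rfl hl' hl1' (fun q => by
        obtain ⟨i, j, n, h⟩ := hgen (q : E ⧸ frattini E)
        exact ⟨i, j, n, QuotientGroup.eq.mp h.symm⟩)
    refine ⟨h5, ?_, ?_⟩
    · -- `d` and `l` lie in the Frattini subgroup of `S`
      set Φ' := (frattini E₀).map E₀.subtype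
      set D := frattini S
      have hdD : ∀ q : E, up (q⁻¹ * Fusion.conjAutHom S E (toN x) q) ∈ D := fun q => by
        rw [show up (q⁻¹ * Fusion.conjAutHom S E (toN x) q) = ⁅(up q)⁻¹, x⁆ from Subtype.ext (by
          simp [up, commutatorElement_def, toN, mul_assoc, Subgroup.inclusion])]
        exact PGroup.comm_mem_frattini hS _ _
      have hback : ∀ {q : E}, up q ∈ Φ' → q ∈ frattini E := fun {q} h => by
        obtain ⟨hq, h'⟩ := (mem_frattini_subgroupOf hS hES le_rfl _).mp h
        exact h'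
      have h1 : Φ' < Φ' ⊔ Subgroup.zpowers (up ll) := lt_of_le_of_ne le_sup_left fun h =>
        hl1' (hback (h.ge (Subgroup.mem_sup_right (Subgroup.mem_zpowers _))))
      haveI : Φ'.Normal := ConjAct.normal_of_characteristic_of_normal
      have h2 : Φ' ⊔ Subgroup.zpowers (up ll) < D := by
        refine lt_of_le_of_ne (sup_le (frattini_map_le hS E₀) (Subgroup.zpowers_le.mpr (hll ▸ hdD dl))) fun h => ?_
        obtain ⟨u, hu, v, hv, huv⟩ := (Subgroup.mem_sup_of_normal_left (s := Φ')).mp (h.ge (hdl ▸ hdD e))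
        obtain ⟨n, rfl⟩ := (isOfFinOrder_of_finite (up ll)).mem_powers_iff_mem_zpowers.mpr hv
        have huE : (u : Ω) ∈ E := ((mem_frattini_subgroupOf hS hES le_rfl _).mp hu).1
        have hq : dl = ⟨u, huE⟩ * ll ^ n := Subtype.ext (by
          simpa [up] using (congrArg Subtype.val huv).symm)
        apply hl1'
        rw [← QuotientGroup.eq_one_iff, ← hd, dsp_eq_one]
        rw [hq, QuotientGroup.mk_mul, (QuotientGroup.eq_one_iff _).mpr (hback (q := ⟨u, huE⟩) hu), one_mul,
          QuotientGroup.mk_pow, map_pow, hzl]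
      have h3 := card_mul_le' hS h1
      have h4 := card_mul_le' hS h2
      have hΦidx : Φ'.index = p ^ 4 := by
        rw [← Subgroup.relIndex_mul_index (Subgroup.map_subtype_le _), hidx, pow_succ p 3, Subgroup.relIndex,
          Subgroup.subgroupOf, Subgroup.comap_map_eq_self_of_injective E₀.subtype_injective,
          frattini_index_equiv hE₀p ι, hfr]
      have h6 := Φ'.card_mul_index
      rw [hΦidx, ← D.card_mul_index] at h6
      have h7 : (p * p * Nat.card Φ') * D.index ≤ (p * p * Nat.card Φ') * p ^ 2 := by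
        calc _ ≤ Nat.card D * D.index := Nat.mul_le_mul_right _ (by
              calc p * p * Nat.card Φ' = p * (p * Nat.card Φ') := by ring
                _ ≤ p * Nat.card (Φ' ⊔ Subgroup.zpowers (up ll) : Subgroup S) := Nat.mul_le_mul_left p h3
                _ ≤ _ := h4)
          _ = Nat.card Φ' * p ^ 4 := h6.symm
          _ = _ := by ring
      exact Nat.le_of_mul_le_mul_left h7 (Nat.mul_pos (Nat.mul_pos (Fact.out : p.Prime).pos
        (Fact.out : p.Prime).pos) Nat.card_pos)
    · rcases hU with hbot | hU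
      · left
        refine ⟨hbot, up ll, Subtype.ext ?_, fun q hq hqc => ?_⟩
        · have h := PGroup.pow_mem_frattini hEp ll
          rw [hbot, Subgroup.mem_bot] at h
          simpa [up] using congrArg Subtype.val h
        · have h1 : ρ z ((⟨q, hq⟩ : E) : E ⧸ frattini E) = ((⟨q, hq⟩ : E) : E ⧸ frattini E) := by
            rw [hρx]
            congr 1
            refine Subtype.ext ?_
            have h2 := hconj ⟨q, hq⟩
            rw [show up ⟨q, hq⟩ = q from rfl, Subgroup.mem_center_iff.mp hqc x, mul_inv_cancel_right] at h2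
            exact (congrArg Subtype.val h2 :)
          obtain ⟨n, hn⟩ := exists_pow_eq C.exp (hfix _ h1)
          rw [← QuotientGroup.mk_pow] at hn
          have h3 := QuotientGroup.eq.mp hn.symm
          rw [hbot, Subgroup.mem_bot, inv_mul_eq_one] at h3
          have h4 : q = up ll ^ n := Subtype.ext (by simpa [up] using congrArg Subtype.val h3.symm)
          rw [h4]
          exact Subgroup.pow_mem _ (Subgroup.mem_zpowers _) n
      · exact Or.inr hU

end Cfsg.Agent.LocalEvenD.RTP
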