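import Cfsg.Agent.LocalEvenD.RankThreePearl.Series
import Cfsg.Agent.LocalEvenD.RankThreeEss.Binom
import Cfsg.Agent.LocalEvenD.RankThreeEss.GL3

/-!
# Two-generator groups with an irreducible Frattini quotient and a unipotent automorphism
-/

set_option autoImplicit false
set_option linter.style.haveILetI false

namespace Cfsg.Agent.LocalEvenD.RTP

open scoped commutatorElement
open Cfsg.Agent
open Cfsg.Agent.LocalEvenD.RTE

variable {P : Type*} [Group P] [Finite P] {p : ℕ} [Fact p.Prime]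

omit [Finite P] [Fact p.Prime] in
/-- The subgroup of elements centralizing a subgroup modulo a characteristic one. -/
lemma characteristic_centralizer_mod (K N : Subgroup P) [hK : K.Characteristic] [hN : N.Characteristic] :
    ((Subgroup.centralizer ((K.map (QuotientGroup.mk' N) : Subgroup (P ⧸ N)) : Set (P ⧸ N))).comap
      (QuotientGroup.mk' N)).Characteristic := by
  refine Subgroup.characteristic_iff_map_le.mpr fun φ => ?_
  rintro _ ⟨q, hq, rfl⟩
  rw [Subgroup.mem_comap, Subgroup.mem_centralizer_iff]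
  rintro _ ⟨k, hk, rfl⟩
  have hk' : φ.symm k ∈ K := Subgroup.characteristic_iff_map_le.mp hK φ.symm ⟨k, hk, rfl⟩
  have h := Subgroup.mem_centralizer_iff.mp (Subgroup.mem_comap.mp hq) _ ⟨_, hk', rfl⟩
  have h' := congrArg (qAut N φ) h
  simpa [map_mul] using h'

/-- A basis of the Frattini quotient adapted to an automorphism. -/
lemma exists_basis (hP : IsPGroup p P) (hidx : (frattini P).index = p ^ 2) (μ : MulAut P)
    (hμp : ∀ q, q⁻¹ * (μ ^ p) q ∈ frattini P) (hμ1 : ∃ q, q⁻¹ * μ q ∉ frattini P) :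
    ∃ a b : P, ∃ s : ℕ, (s : ZMod p) ≠ 0 ∧ a⁻¹ * μ a ∈ frattini P ∧ (b * a ^ s)⁻¹ * μ b ∈ frattini P ∧
      (∀ q, ∃ i j : ℕ, (a ^ i * b ^ j)⁻¹ * q ∈ frattini P) ∧
      ∀ i j : ℕ, a ^ i * b ^ j ∈ frattini P → (i : ZMod p) = 0 ∧ (j : ZMod p) = 0 := by
  classical
  letI : CommGroup (P ⧸ frattini P) := fratComm hP
  have hexp : ∀ v : P ⧸ frattini P, v ^ p = 1 := fun v => by
    induction v using QuotientGroup.induction_on with
    | H q => exact (QuotientGroup.eq_one_iff _).mpr (PGroup.pow_mem_frattini hP q)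
  haveI : Finite (MulAut (P ⧸ frattini P)) :=
    Finite.of_injective (fun f : MulAut (P ⧸ frattini P) => (f : P ⧸ frattini P → P ⧸ frattini P))
      DFunLike.coe_injective
  set η : MulAut (P ⧸ frattini P) := qAut (frattini P) μ with hη
  have hηp : η ^ p = 1 := by
    refine MulEquiv.ext fun v => ?_
    induction v using QuotientGroup.induction_on with
    | H q =>
      rw [hη, ← map_pow, qAut_mk, MulAut.one_apply]
      exact (QuotientGroup.eq.mpr (hμp q)).symm
  set ρ := MonoidHom.id (MulAut (P ⧸ frattini P))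
  have hP0 := isPGroup_zp hηp
  have hcard : Nat.card (P ⧸ frattini P) = p ^ 2 := hidx
  obtain ⟨A, -, hA1, hAfix⟩ := exists_fixed (ρ := ρ) hP0 (U := ⊤) (fun _ _ _ _ => Subgroup.mem_top _)
    (by rw [Subgroup.card_top, hcard]; exact dvd_pow_self p two_ne_zero)
  have hAη : η A = A := hAfix η (Subgroup.mem_zpowers η)
  obtain ⟨B, hB⟩ : ∃ B, B ∉ Subgroup.zpowers A := by
    by_contra h
    push Not at h
    have h1 : Subgroup.zpowers A = ⊤ := eq_top_iff.mpr fun v _ => h v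
    have h2 := card_zp hexp hA1
    rw [h1, Subgroup.card_top, hcard] at h2
    nlinarith [(Fact.out : p.Prime).two_le]
  have hUinv : ∀ u ∈ Subgroup.zpowers η, ∀ v ∈ Subgroup.zpowers A, ρ u v ∈ Subgroup.zpowers A := by
    rintro u hu v ⟨i, rfl⟩
    show ρ u (A ^ i) ∈ _
    rw [map_zpow, hAfix u hu]
    exact Subgroup.zpow_mem _ (Subgroup.mem_zpowers A) i
  have hrel : (Subgroup.zpowers A).relIndex ⊤ = p := by
    rw [Subgroup.relIndex_top_right]
    have h2 := (Subgroup.zpowers A).card_mul_index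
    rw [card_zp hexp hA1, hcard, sq] at h2
    exact Nat.eq_of_mul_eq_mul_left (Fact.out : p.Prime).pos h2
  obtain ⟨s, hs⟩ := exists_pow_eq hexp (dsp_mem_of_step hP0 hUinv (W := ⊤) (fun _ _ _ _ => Subgroup.mem_top _)
    hrel (Subgroup.mem_zpowers η) (Subgroup.mem_top B))
  have hηB : η B = B * A ^ s := by rw [← hs]; exact apply_eq (ρ := ρ) η B
  have hdec : ∀ v, ∃ i j : ℕ, v = A ^ i * B ^ j := fun v =>
    decomp_two hexp (h := ⊤) (by rw [Subgroup.card_top, hcard]) (Subgroup.mem_top _) (Subgroup.mem_top _)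
      hA1 hB (Subgroup.mem_top v)
  have hs0 : (s : ZMod p) ≠ 0 := fun h0 => by
    obtain ⟨q, hq⟩ := hμ1
    apply hq
    refine QuotientGroup.eq.mp (?_ : (q : P ⧸ frattini P) = _)
    rw [← qAut_mk, ← hη]
    obtain ⟨i, j, h⟩ := hdec q
    rw [h, map_mul, map_pow, map_pow, hAη, hηB, pow_cast hexp A (m := s) (n := 0) (by rw [h0, Nat.cast_zero]),
      pow_zero, mul_one]
  obtain ⟨a, rfl⟩ := QuotientGroup.mk_surjective A
  obtain ⟨b, rfl⟩ := QuotientGroup.mk_surjective B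
  refine ⟨a, b, s, hs0, ?_, ?_, fun q => ?_, fun i j h => ?_⟩
  · rw [hη, qAut_mk] at hAη
    exact QuotientGroup.eq.mp hAη.symm
  · rw [hη, qAut_mk] at hηB
    exact QuotientGroup.eq.mp hηB.symm
  · obtain ⟨i, j, h⟩ := hdec q
    exact ⟨i, j, QuotientGroup.eq.mp (h.symm.trans rfl)⟩
  · have h1 : (a : P ⧸ frattini P) ^ i * (b : P ⧸ frattini P) ^ j = 1 := (QuotientGroup.eq_one_iff _).mpr h
    have hj : (j : ZMod p) = 0 := by
      by_contra hj
      apply hB
      have h2 : (b : P ⧸ frattini P) ^ j ∈ Subgroup.zpowers (a : P ⧸ frattini P) := by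
        rw [eq_inv_of_mul_eq_one_right h1]
        exact inv_mem (Subgroup.pow_mem _ (Subgroup.mem_zpowers _) i)
      have h3 := Subgroup.pow_mem _ h2 ((j : ZMod p)⁻¹).val
      rwa [← pow_mul, pow_cast hexp _ (n := 1) (by
        push_cast; rw [ZMod.natCast_zmod_val, mul_inv_cancel₀ hj]), pow_one] at h3
    refine ⟨?_, hj⟩
    rw [pow_cast hexp _ (m := j) (n := 0) (by rw [hj, Nat.cast_zero]), pow_zero, mul_one] at h1
    have h4 := orderOf_dvd_of_pow_eq_one h1
    rw [orderOf_eq_prime (hexp _) hA1] at h4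
    exact (ZMod.natCast_eq_zero_iff i p).mpr h4

/-- What is left of the group when it has order more than `p³`. -/
structure TwoGenShape (p : ℕ) (μ : MulAut P) (Y : Subgroup P) : Prop where
  card : Nat.card P = p ^ 5
  le : Y ≤ frattini P
  char : Y.Characteristic
  central : Y ≤ Subgroup.center P
  exists_gen : ∃ y₁ y₂ : P, ∃ s : ℕ, y₂ ∉ Subgroup.zpowers y₁ ∧ (s : ZMod p) ≠ 0 ∧ y₁ ∈ Y ∧ y₂ ∈ Y ∧
    y₁ ^ p = 1 ∧ y₂ ^ p = 1 ∧ y₁ ≠ 1 ∧ μ y₁ = y₁ ∧ μ y₂ = y₂ * y₁ ^ s ∧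
    (∀ y ∈ Y, ∃ i j : ℕ, y = y₁ ^ i * y₂ ^ j) ∧
    ∀ u : P, (∀ w : P, ⁅w, u⁆ ∈ Subgroup.zpowers y₁) → u ∈ Y

theorem two_gen_structure (hp : 5 ≤ p) (hP : IsPGroup p P) (hrank : RankThree p P)
    (hidx : (frattini P).index = p ^ 2)
    (hirr : ∀ K : Subgroup P, K.Characteristic → frattini P ≤ K → K = frattini P ∨ K = ⊤)
    (μ : MulAut P) (hμp : ∃ w, μ ^ p = MulAut.conj w) (hμ1 : ∃ q, q⁻¹ * μ q ∉ frattini P) :
    Nat.card P ≤ p ^ 3 ∨ ∃ Y : Subgroup P, TwoGenShape p μ Y := by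
  classical
  have hpp := (Fact.out : p.Prime)
  obtain ⟨w₀, hw₀⟩ := hμp
  have hμpq : ∀ q, q⁻¹ * (μ ^ p) q ∈ frattini P := fun q => by
    rw [hw₀, MulAut.conj_apply, show q⁻¹ * (w₀ * q * w₀⁻¹) = ⁅q⁻¹, w₀⁆ by
      rw [commutatorElement_def]; group]
    exact PGroup.comm_mem_frattini hP _ _
  obtain ⟨a, b, s, hs, hμa, hμb, hdec, hind⟩ := exists_basis hP hidx μ hμpq hμ1
  have haΦ : a ∉ frattini P := fun h => one_ne_zero (α := ZMod p) (by
    simpa using (hind 1 0 (by simpa using h)).1)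
  have htop : ∀ K : Subgroup P, K.Characteristic → frattini P ≤ K → a ∈ K → K = ⊤ :=
    fun K hK hle haK => (hirr K hK hle).resolve_left fun h => haΦ (h ▸ haK)
  set F1 := frattini P with hF1
  set F2 := nxt p F1 with hF2
  have h21 : F2 ≤ F1 := nxt_le_self F1
  have hF1e : nxt p (⊤ : Subgroup P) = F1 := nxt_top hP
  -- modulo `Φ₂`
  set π₂ := QuotientGroup.mk' F2 with hπ₂
  have hπ₂1 : ∀ {q : P}, π₂ q = 1 ↔ q ∈ F2 := fun {q} => QuotientGroup.eq_one_iff q
  have hc2 : commutator (P ⧸ F2) ≤ Subgroup.center (P ⧸ F2) := by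
    refine Subgroup.commutator_le.mpr fun u _ v _ => Subgroup.mem_center_iff.mpr fun w => ?_
    obtain ⟨u, rfl⟩ := QuotientGroup.mk'_surjective F2 u
    obtain ⟨v, rfl⟩ := QuotientGroup.mk'_surjective F2 v
    obtain ⟨w, rfl⟩ := QuotientGroup.mk'_surjective F2 w
    refine commutatorElement_eq_one_iff_commute.mp ?_
    rw [← map_commutatorElement, ← map_commutatorElement]
    exact hπ₂1.mpr (comm_mem_nxt' (PGroup.comm_mem_frattini hP u v) w)
  have hF1c : ∀ {φ : P}, φ ∈ F1 → ∀ q, Commute (π₂ φ) (π₂ q) := fun {φ} hφ q => by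
    rw [← commutatorElement_eq_one_iff_commute, ← map_commutatorElement, hπ₂1]
    exact comm_mem_nxt hφ q
  set z := ⁅a, b⁆ with hz
  have hzF : z ∈ F1 := PGroup.comm_mem_frattini hP a b
  have hcomm2 : ∀ u v : P, π₂ ⁅u, v⁆ ∈ Subgroup.zpowers (π₂ z) := by
    intro u v
    obtain ⟨i, j, hu⟩ := hdec u
    obtain ⟨k, l, hv⟩ := hdec v
    obtain ⟨φ, hφ, rfl⟩ : ∃ φ ∈ F1, a ^ i * b ^ j * φ = u := ⟨_, hu, mul_inv_cancel_left _ _⟩
    obtain ⟨ψ, hψ, rfl⟩ : ∃ ψ ∈ F1, a ^ k * b ^ l * ψ = v := ⟨_, hv, mul_inv_cancel_left _ _⟩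
    have e1 : ∀ q : P ⧸ F2, ⁅π₂ φ, q⁆ = 1 := fun q => by
      obtain ⟨q, rfl⟩ := QuotientGroup.mk'_surjective F2 q
      exact commutatorElement_eq_one_iff_commute.mpr (hF1c hφ q)
    have e2 : ∀ q : P ⧸ F2, ⁅q, π₂ ψ⁆ = 1 := fun q => by
      obtain ⟨q, rfl⟩ := QuotientGroup.mk'_surjective F2 q
      exact commutatorElement_eq_one_iff_commute.mpr (hF1c hψ q).symm
    have e3 : ⁅π₂ b, π₂ a⁆ = (π₂ z)⁻¹ := by
      rw [hz, map_commutatorElement, commutatorElement_inv]
    have e4 : ⁅π₂ a, π₂ b⁆ = π₂ z := by rw [hz, map_commutatorElement]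
    rw [map_commutatorElement π₂ (a ^ i * b ^ j * φ)]
    simp only [map_mul, map_pow, PGroup.comm_mul_left hc2, PGroup.comm_mul_right hc2,
      PGroup.comm_pow_left hc2, PGroup.comm_pow_right hc2, commutatorElement_self, one_pow, e1, e2, e3, e4,
      one_mul, mul_one]
    repeat' first
      | exact Subgroup.mem_zpowers (π₂ z)
      | apply mul_mem
      | apply pow_mem
      | apply inv_mem
  have hcommP : ∀ u v : P, ⁅u, v⁆ ^ p ∈ F2 := fun u v => pow_mem_nxt (PGroup.comm_mem_frattini hP u v)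
  -- `℧(P) ≤ P' Φ₂`
  set K := commutator P ⊔ F2 with hK
  have hKc : ∀ u v : P, ⁅u, v⁆ ∈ K := fun u v =>
    Subgroup.mem_sup_left (PGroup.commutatorElement_mem_commutator u v)
  letI : CommGroup (P ⧸ K) :=
    { (inferInstance : Group (P ⧸ K)) with
      mul_comm := fun x y => by
        induction x using QuotientGroup.induction_on with
        | H u =>
          induction y using QuotientGroup.induction_on with
          | H v =>
            refine QuotientGroup.eq.mpr ?_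
            rw [show (u * v)⁻¹ * (v * u) = ⁅v⁻¹, u⁻¹⁆ by rw [commutatorElement_def]; group]
            exact hKc _ _ }
  set π := QuotientGroup.mk' K with hπ
  have hπ1 : ∀ {q : P}, π q = 1 ↔ q ∈ K := fun {q} => QuotientGroup.eq_one_iff q
  set η : MulAut (P ⧸ K) := qAut K μ with hη
  have hηm : ∀ q, η (π q) = π (μ q) := fun q => rfl
  set A := π a with hA
  set B := π b with hB
  have hImg : ∀ {φ : P}, φ ∈ F1 → π φ ^ p = 1 ∧ ∃ i j : ℕ, π φ = (A ^ p) ^ i * (B ^ p) ^ j := by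
    have hF1p : ∀ {φ : P}, φ ∈ F1 → π φ ^ p = 1 := fun {φ} hφ => by
      rw [← map_pow, hπ1]
      exact Subgroup.mem_sup_right (pow_mem_nxt hφ)
    intro φ hφ
    refine ⟨hF1p hφ, ?_⟩
    obtain ⟨W, hW⟩ : π φ ∈ (powMonoidHom p : P ⧸ K →* P ⧸ K).range := by
      refine (nxt_le (K := (⊤ : Subgroup P)) (N := (powMonoidHom p : P ⧸ K →* P ⧸ K).range.comap π)
        (fun u _ w => ?_) fun u _ => ?_) (hF1e.ge hφ)
      · rw [Subgroup.mem_comap, hπ1.mpr (hKc u w)]; exact one_mem _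
      · exact ⟨π u, (map_pow π u p).symm⟩
    obtain ⟨w, rfl⟩ := QuotientGroup.mk'_surjective K W
    obtain ⟨i, j, h⟩ := hdec w
    obtain ⟨ψ, hψ, rfl⟩ : ∃ ψ ∈ F1, a ^ i * b ^ j * ψ = w := ⟨_, h, mul_inv_cancel_left _ _⟩
    refine ⟨i, j, ?_⟩
    rw [← hW, powMonoidHom_apply]
    show π (a ^ i * b ^ j * ψ) ^ p = _
    rw [map_mul, map_mul, map_pow, map_pow, mul_pow, mul_pow, hF1p hψ, mul_one, ← pow_mul, ← pow_mul,
      ← pow_mul, ← pow_mul, mul_comm i, mul_comm j]
  have hNA : ∃ φ ∈ F1, nHom η A = π φ := ⟨_, hμa, by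
    show A⁻¹ * η A = _
    rw [hA, hηm, map_mul, map_inv]⟩
  have hNB : ∃ φ ∈ F1, nHom η B = A ^ s * π φ := ⟨_, hμb, by
    show B⁻¹ * η B = _
    rw [hA, hB, hηm, map_mul, map_inv, map_mul, map_pow]
    simp [mul_comm, mul_left_comm]⟩
  obtain ⟨φa, hφa, hNA⟩ := hNA
  obtain ⟨φb, hφb, hNB⟩ := hNB
  have hNAp : nHom η (A ^ p) = 1 := by rw [map_pow, hNA, (hImg hφa).1]
  have hNimg : ∀ {φ : P}, φ ∈ F1 → ∃ m : ℕ, nHom η (π φ) = (A ^ p) ^ m := by
    intro φ hφ
    obtain ⟨-, i, j, h⟩ := hImg hφ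
    refine ⟨s * j, ?_⟩
    rw [h, map_mul, map_pow (nHom η) (A ^ p) i, map_pow (nHom η) (B ^ p) j, hNAp, one_pow, one_mul,
      map_pow (nHom η) B p, hNB, mul_pow, (hImg hφb).1, mul_one,
      ← pow_mul, ← pow_mul, ← pow_mul]
    congr 1; ring
  have hN4 : nHom η (nHom η (nHom η (nHom η B))) = 1 ∧ (nHom η (nHom η B)) ^ p = 1 ∧
      (nHom η (nHom η (nHom η B))) ^ p = 1 := by
    obtain ⟨m, hm⟩ := hNimg hφb
    obtain ⟨m', hm'⟩ := hNimg hφa
    have h2 : nHom η (nHom η B) = π φa ^ s * (A ^ p) ^ m := by rw [hNB, map_mul, map_pow, hNA, hm]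
    have h3 : nHom η (nHom η (nHom η B)) = ((A ^ p) ^ m') ^ s := by
      rw [h2, map_mul, map_pow, hm', map_pow, hNAp, one_pow, mul_one]
    have hApp : (A ^ p) ^ p = 1 := by
      have := (hImg (PGroup.pow_mem_frattini hP a)).1
      rwa [map_pow] at this
    refine ⟨?_, ?_, ?_⟩
    · rw [h3, map_pow, map_pow, hNAp, one_pow, one_pow]
    · rw [h2, mul_pow, ← pow_mul, mul_comm s, pow_mul, (hImg hφa).1, one_pow, one_mul, ← pow_mul,
        mul_comm m, pow_mul, hApp, one_pow]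
    · rw [h3, ← pow_mul, ← pow_mul, show m' * (s * p) = p * (m' * s) by ring, pow_mul, hApp, one_pow]
  obtain ⟨hN4, hN2p, hN3p⟩ := hN4
  have hiter : ∀ n : ℕ, (η ^ n) B = B * nHom η B ^ n.choose 1 * nHom η (nHom η B) ^ n.choose 2 *
      nHom η (nHom η (nHom η B)) ^ n.choose 3 := by
    intro n
    induction n with
    | zero => simp
    | succ n ih =>
      rw [pow_succ', MulAut.mul_apply, ih, eta_eq]
      simp only [map_mul, map_pow, hN4, one_pow, mul_one, Nat.choose_succ_succ', Nat.choose_zero_right,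
        Nat.choose_one_right, pow_add, pow_one]
      simp [mul_assoc, mul_left_comm, mul_comm]
  have hηp : η ^ p = 1 := by
    rw [hη, ← map_pow, hw₀]
    refine MulEquiv.ext fun v => ?_
    induction v using QuotientGroup.induction_on with
    | H q =>
      rw [qAut_mk, MulAut.one_apply, MulAut.conj_apply, QuotientGroup.mk_mul, QuotientGroup.mk_mul,
        QuotientGroup.mk_inv, mul_inv_cancel_comm]
  have hAp : A ^ p = 1 := by
    have h := hiter p
    have hch : ∀ k : ℕ, k ≠ 0 → k < p → ∀ y : P ⧸ K, y ^ p = 1 → y ^ p.choose k = 1 := fun k hk hkp y hy => by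
      obtain ⟨c, hc⟩ := hpp.dvd_choose_self hk hkp
      rw [hc, pow_mul, hy, one_pow]
    rw [hηp, MulAut.one_apply, Nat.choose_one_right, hch 2 two_ne_zero (by omega) _ hN2p,
      hch 3 (by norm_num) (by omega) _ hN3p, mul_one, mul_one] at h
    have h1 : nHom η B ^ p = 1 := mul_eq_left.mp h.symm
    rw [hNB, mul_pow, (hImg hφb).1, mul_one, ← pow_mul, mul_comm, pow_mul] at h1
    have hApp : (A ^ p) ^ p = 1 := by
      have := (hImg (PGroup.pow_mem_frattini hP a)).1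
      rwa [map_pow] at this
    rcases eq_or_ne (A ^ p) 1 with h0 | h0
    · exact h0
    · have h2 := orderOf_dvd_of_pow_eq_one h1
      rw [orderOf_eq_prime hApp h0] at h2
      exact absurd ((ZMod.natCast_eq_zero_iff s p).mpr h2) hs
  have hpowK : ∀ q : P, q ^ p ∈ K := by
    have hKK : ((powMonoidHom p : P ⧸ K →* P ⧸ K).comp π).ker.Characteristic := by
      refine Subgroup.characteristic_iff_map_le.mpr fun φ => ?_
      rintro _ ⟨q, hq, rfl⟩
      rw [SetLike.mem_coe, MonoidHom.mem_ker, MonoidHom.comp_apply, powMonoidHom_apply, ← map_pow, hπ1] at hq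
      rw [MonoidHom.mem_ker, MonoidHom.comp_apply, powMonoidHom_apply, ← map_pow, hπ1]
      show φ q ^ p ∈ K
      rw [← map_pow]
      exact Subgroup.characteristic_iff_map_le.mp inferInstance φ ⟨_, hq, rfl⟩
    have h1 := htop _ hKK (fun φ hφ => (hImg hφ).1) hAp
    intro q
    have h2 : π q ^ p = 1 := h1.ge (Subgroup.mem_top q)
    rwa [← map_pow, hπ1] at h2
  have hF1z : ∀ {φ : P}, φ ∈ F1 → ∃ n : ℕ, (z ^ n)⁻¹ * φ ∈ F2 := by
    intro φ hφ
    have h1 : F1 ≤ K := hF1e.ge.trans (nxt_le (fun u _ w => hKc u w) fun u _ => hpowK u)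
    have h2 : K ≤ (Subgroup.zpowers (π₂ z)).comap π₂ := sup_le
      (Subgroup.commutator_le.mpr fun u _ v _ => hcomm2 u v)
      fun q hq => by rw [Subgroup.mem_comap, hπ₂1.mpr hq]; exact one_mem _
    have h3 : π₂ φ ∈ Subgroup.zpowers (π₂ z) := h2 (h1 hφ)
    obtain ⟨n, hn⟩ := (isOfFinOrder_of_finite (π₂ z)).mem_powers_iff_mem_zpowers.mpr h3
    refine ⟨n, hπ₂1.mp ?_⟩
    rw [map_mul, map_inv, map_pow, ← hn]
    exact inv_mul_cancel _
  -- `℧(P) ≤ Φ₂`
  have hzp2 : π₂ z ^ p = 1 := by rw [← map_pow, hπ₂1]; exact pow_mem_nxt hzF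
  have hpowF2 : ∀ q : P, q ^ p ∈ F2 := by
    let ψ : P →* P ⧸ F2 := MonoidHom.mk' (fun q => π₂ q ^ p) fun u v => by
      show π₂ (u * v) ^ p = _
      rw [map_mul]
      refine PGroup.mul_pow_prime_classTwo hc2 hpp (by omega) ?_
      rw [← map_commutatorElement, ← map_pow, hπ₂1]
      exact hcommP v u
    have hker : ∀ {q}, q ∈ ψ.ker ↔ q ^ p ∈ F2 := fun {q} => by
      rw [MonoidHom.mem_ker]
      show π₂ q ^ p = 1 ↔ _
      rw [← map_pow, hπ₂1]
    have hchar : ψ.ker.Characteristic := by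
      refine Subgroup.characteristic_iff_map_le.mpr fun φ => ?_
      rintro _ ⟨q, hq, rfl⟩
      refine hker.mpr ?_
      show φ q ^ p ∈ F2
      rw [← map_pow]
      exact Subgroup.characteristic_iff_map_le.mp inferInstance φ ⟨_, hker.mp hq, rfl⟩
    rcases hirr _ hchar (fun φ hφ => hker.mpr (pow_mem_nxt hφ)) with h | h
    · exfalso
      have hin : ∀ q, ψ q ∈ Subgroup.zpowers (π₂ z) := fun q => by
        obtain ⟨n, hn⟩ := hF1z (PGroup.pow_mem_frattini hP q)
        refine ⟨n, ?_⟩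
        have h2 := hπ₂1.mpr hn
        rw [map_mul, map_inv, inv_mul_eq_one, map_pow, map_pow] at h2
        show π₂ z ^ (n : ℤ) = π₂ q ^ p
        rw [zpow_natCast, h2]
      have hz1 : π₂ z ≠ 1 := fun h0 => haΦ (h.le (hker.mpr (hπ₂1.mp (by
        have := hin a
        rw [h0, Subgroup.zpowers_one_eq_bot, Subgroup.mem_bot] at this
        rw [map_pow]; exact this))))
      have hcz : Nat.card (Subgroup.zpowers (π₂ z)) = p := by
        rw [Nat.card_zpowers, orderOf_eq_prime hzp2 hz1]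
      have hψa : ψ a ≠ 1 := fun h0 => haΦ (h.le h0)
      have hgen : Subgroup.zpowers (ψ a) = Subgroup.zpowers (π₂ z) := by
        refine Subgroup.eq_of_le_of_card_ge (Subgroup.zpowers_le.mpr (hin a)) ?_
        rw [hcz, Nat.card_zpowers]
        have h2 : ψ a ^ p = 1 := by
          obtain ⟨i, hi⟩ := hin a
          rw [← hi]
          show (π₂ z ^ i) ^ p = 1
          rw [← zpow_natCast, ← zpow_mul, mul_comm, zpow_mul, zpow_natCast, hzp2, one_zpow]
        rw [orderOf_eq_prime h2 hψa]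
      obtain ⟨n, hn⟩ := (isOfFinOrder_of_finite (ψ a)).mem_powers_iff_mem_zpowers.mpr (hgen.ge (hin b))
      -- `b a^{-n}` would lie in the kernel
      have hbn : b * (a ^ n)⁻¹ ∈ F1 := h.le (by
        rw [MonoidHom.mem_ker, map_mul, map_inv, map_pow, ← hn]
        exact mul_inv_cancel _)
      have h3 : a ^ ((p - 1) * n) * b ^ 1 ∈ F1 := by
        have h4 : a ^ (p * n) ∈ F1 := by rw [pow_mul]; exact pow_mem (PGroup.pow_mem_frattini hP a) n
        have h5 : (a ^ n)⁻¹ * b ∈ F1 := by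
          have := (inferInstance : F1.Normal).conj_mem _ hbn (a ^ n)⁻¹
          simpa [mul_assoc] using this
        have h6 := mul_mem h4 h5
        rw [pow_one]
        convert h6 using 1
        rw [show p * n = (p - 1) * n + n by rw [Nat.sub_mul, one_mul, Nat.sub_add_cancel (Nat.le_mul_of_pos_left n hpp.pos)],
          pow_add]
        simp [mul_assoc]
      exact one_ne_zero (α := ZMod p) (by simpa using (hind _ 1 h3).2)
    · exact fun q => hker.mp (h.ge (Subgroup.mem_top q))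
  by_cases hz2 : z ∈ F2
  · -- `Φ(P) = 1`
    have h1 : F1 ≤ F2 := fun φ hφ => by
      obtain ⟨n, hn⟩ := hF1z hφ
      simpa using mul_mem (pow_mem hz2 n) hn
    have h2 : Nat.card F1 = 1 := Subgroup.card_eq_one.mpr (eq_bot_of_le_nxt hP F1 h1)
    left
    rw [← F1.card_mul_index, h2, hidx, one_mul]
    exact Nat.pow_le_pow_right hpp.pos (by norm_num)
  have hz21 : π₂ z ≠ 1 := fun h => hz2 (hπ₂1.mp h)
  -- modulo `Φ₃`
  set F3 := nxt p F2 with hF3
  have h32 : F3 ≤ F2 := nxt_le_self F2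
  set π₃ := QuotientGroup.mk' F3 with hπ₃
  have hπ₃1 : ∀ {q : P}, π₃ q = 1 ↔ q ∈ F3 := fun {q} => QuotientGroup.eq_one_iff q
  have hF2c : ∀ {φ : P}, φ ∈ F2 → π₃ φ ∈ Subgroup.center (P ⧸ F3) := fun {φ} hφ => by
    refine Subgroup.mem_center_iff.mpr fun w => ?_
    obtain ⟨w, rfl⟩ := QuotientGroup.mk'_surjective F3 w
    refine commutatorElement_eq_one_iff_commute.mp ?_
    rw [← map_commutatorElement, hπ₃1]
    exact comm_mem_nxt' hφ w
  have hF2p : ∀ {φ : P}, φ ∈ F2 → π₃ φ ^ p = 1 := fun {φ} hφ => by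
    rw [← map_pow, hπ₃1]; exact pow_mem_nxt hφ
  have hF12 : ∀ {φ : P}, φ ∈ F1 → ∀ w, ⁅w, φ⁆ ∈ F2 := fun {φ} hφ w => comm_mem_nxt' hφ w
  have hzp3 : π₃ z ^ p = 1 := by
    have h1 : ⁅⁅a, b⁆, a⁆ ∈ F2 := comm_mem_nxt hzF a
    rw [hz, map_commutatorElement]
    refine comm_pow_eq_one (by omega) ?_ ?_ ?_
    · rw [← map_pow]
      exact PGroup.commute_of_mem_center (hF2c (hpowF2 a)) _
    · rw [← map_commutatorElement, ← map_commutatorElement]
      exact hF2c h1
    · rw [← map_commutatorElement, ← map_commutatorElement]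
      exact hF2p h1
  set y₁ := ⁅a, z⁆ with hy₁
  set y₂ := ⁅b, z⁆ with hy₂
  have hy₁F : y₁ ∈ F2 := hF12 hzF a
  have hy₂F : y₂ ∈ F2 := hF12 hzF b
  have hzc : ∀ {φ : P}, φ ∈ F1 → Commute (π₃ φ) (π₃ z) := fun {φ} hφ => by
    obtain ⟨n, hn⟩ := hF1z hφ
    rw [show φ = z ^ n * ((z ^ n)⁻¹ * φ) by rw [mul_inv_cancel_left], map_mul, map_pow]
    exact ((Commute.refl _).pow_left n).mul_left (PGroup.commute_of_mem_center (hF2c hn) _)
  have hzform : ∀ (i j : ℕ) {φ : P}, φ ∈ F1 → π₃ ⁅a ^ i * b ^ j * φ, z⁆ = π₃ y₁ ^ i * π₃ y₂ ^ j := by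
    intro i j φ hφ
    have hca : ∀ w, Commute (π₃ ⁅a, z⁆) (π₃ w) := fun w => PGroup.commute_of_mem_center (hF2c hy₁F) _
    have hcb : ∀ w, Commute (π₃ ⁅b, z⁆) (π₃ w) := fun w => PGroup.commute_of_mem_center (hF2c hy₂F) _
    have e1 : ⁅π₃ φ, π₃ z⁆ = 1 := commutatorElement_eq_one_iff_commute.mpr (hzc hφ)
    have e2 : ⁅π₃ b ^ j, π₃ z⁆ = π₃ y₂ ^ j := by
      rw [PGroup.commutatorElement_pow_left (by rw [← map_commutatorElement]; exact hcb b), ← map_commutatorElement]
    have e3 : ⁅π₃ a ^ i, π₃ z⁆ = π₃ y₁ ^ i := by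
      rw [PGroup.commutatorElement_pow_left (by rw [← map_commutatorElement]; exact hca a), ← map_commutatorElement]
    rw [map_commutatorElement, map_mul, map_mul, map_pow, map_pow,
      PGroup.commutatorElement_mul_left_of_mem_center (by rw [e1]; exact one_mem _), e1, mul_one,
      PGroup.commutatorElement_mul_left_of_mem_center (by rw [e2]; exact pow_mem (hF2c hy₂F) _), e2, e3]
  set H3 := Subgroup.closure {π₃ y₁, π₃ y₂} with hH3
  have hF2gen : ∀ {φ : P}, φ ∈ F2 → π₃ φ ∈ H3 := by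
    intro φ hφ
    refine (nxt_le (K := F1) (N := H3.comap π₃) (fun u hu w => ?_) fun u hu => ?_) hφ
    · obtain ⟨n, hn⟩ := hF1z hu
      obtain ⟨i, j, hw⟩ := hdec w
      obtain ⟨ψ, hψ, rfl⟩ : ∃ ψ ∈ F1, a ^ i * b ^ j * ψ = w := ⟨_, hw, mul_inv_cancel_left _ _⟩
      set w := a ^ i * b ^ j * ψ with hwdef
      have h1 : ⁅π₃ w, π₃ z⁆ = π₃ y₁ ^ i * π₃ y₂ ^ j := by rw [← map_commutatorElement, hwdef]; exact hzform i j hψ
      have hcen : ⁅π₃ w, π₃ z⁆ ∈ Subgroup.center (P ⧸ F3) := by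
        rw [← map_commutatorElement]; exact hF2c (hF12 hzF _)
      have h2 : ⁅π₃ w, π₃ u⁆ = ⁅π₃ w, π₃ z⁆ ^ n := by
        have h0 : ⁅π₃ w, π₃ ((z ^ n)⁻¹ * u)⁆ = 1 :=
          commutatorElement_eq_one_iff_commute.mpr (PGroup.commute_of_mem_center (hF2c hn) _).symm
        conv_lhs => rw [show u = z ^ n * ((z ^ n)⁻¹ * u) by rw [mul_inv_cancel_left], map_mul π₃ (z ^ n), map_pow π₃ z n]
        rw [PGroup.commutatorElement_mul_right_of_mem_center (by rw [h0]; exact one_mem _), h0, mul_one,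
          PGroup.commutatorElement_pow_right (PGroup.commute_of_mem_center hcen _)]
      rw [Subgroup.mem_comap, map_commutatorElement, ← commutatorElement_inv, h2, h1]
      exact inv_mem (pow_mem (mul_mem (pow_mem (Subgroup.subset_closure (by simp)) _)
        (pow_mem (Subgroup.subset_closure (by simp)) _)) _)
    · obtain ⟨n, hn⟩ := hF1z hu
      rw [Subgroup.mem_comap, map_pow, show u = z ^ n * ((z ^ n)⁻¹ * u) by rw [mul_inv_cancel_left], map_mul,
        map_pow, ((hzc (h21 hn)).symm.pow_left n).mul_pow, hF2p hn, mul_one, ← pow_mul, mul_comm, pow_mul,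
        hzp3, one_pow]
      exact one_mem _
  -- the centralizer of `Φ₁` modulo `Φ₃`
  set Kc := (Subgroup.centralizer ((F1.map π₃ : Subgroup (P ⧸ F3)) : Set (P ⧸ F3))).comap π₃ with hKc'
  have hKcmem : ∀ {q : P}, q ∈ Kc ↔ Commute (π₃ q) (π₃ z) := by
    intro q
    rw [hKc', Subgroup.mem_comap, Subgroup.mem_centralizer_iff]
    refine ⟨fun h => (h _ ⟨z, hzF, rfl⟩).symm, ?_⟩
    rintro h _ ⟨φ, hφ, rfl⟩
    obtain ⟨n, hn⟩ := hF1z hφ
    rw [show φ = z ^ n * ((z ^ n)⁻¹ * φ) by rw [mul_inv_cancel_left], map_mul, map_pow]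
    exact ((h.pow_right n).mul_right (PGroup.commute_of_mem_center (hF2c hn) _).symm).symm.eq
  rcases hirr Kc (characteristic_centralizer_mod F1 F3) (fun φ hφ => hKcmem.mpr (hzc hφ)) with hKtop | hKtop
  swap
  · -- `Φ₂ = 1`
    have h1 : F2 ≤ F3 := fun φ hφ => by
      have h2 : H3 ≤ ⊥ := by
        rw [hH3, Subgroup.closure_le]
        have hh : ∀ q, π₃ ⁅q, z⁆ = 1 := fun q => by
          rw [map_commutatorElement, commutatorElement_eq_one_iff_commute]
          exact hKcmem.mp (hKtop.ge (Subgroup.mem_top q))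
        rintro q (rfl | rfl)
        · exact hh a
        · exact hh b
      exact hπ₃1.mp (h2 (hF2gen hφ))
    have hF2bot := eq_bot_of_le_nxt hP F2 h1
    have hF1le : F1 ≤ Subgroup.zpowers z := fun φ hφ => by
      obtain ⟨n, hn⟩ := hF1z hφ
      rw [hF2bot, Subgroup.mem_bot, inv_mul_eq_one] at hn
      rw [← hn]; exact pow_mem (Subgroup.mem_zpowers z) n
    have hzp : z ^ p = 1 := by
      have := h32 (hπ₃1.mp (by rw [map_pow]; exact hzp3) : z ^ p ∈ F3)
      rwa [hF2bot, Subgroup.mem_bot] at this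
    left
    rw [← F1.card_mul_index, hidx, pow_succ' p 2]
    refine Nat.mul_le_mul_right _ ((Subgroup.card_le_of_le hF1le).trans ?_)
    rw [Nat.card_zpowers]
    exact orderOf_le_of_pow_eq_one hpp.pos hzp
  have hy_ind : ∀ i j : ℕ, π₃ y₁ ^ i * π₃ y₂ ^ j = 1 → (i : ZMod p) = 0 ∧ (j : ZMod p) = 0 := by
    intro i j h
    refine hind i j (hKtop.le (hKcmem.mpr ?_))
    have := hzform i j (one_mem F1)
    rw [mul_one, map_commutatorElement, h] at this
    exact commutatorElement_eq_one_iff_commute.mp this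
  -- modulo `Φ₄`
  set F4 := nxt p F3 with hF4
  have h43 : F4 ≤ F3 := nxt_le_self F3
  set π₄ := QuotientGroup.mk' F4 with hπ₄
  have hπ₄1 : ∀ {q : P}, π₄ q = 1 ↔ q ∈ F4 := fun {q} => QuotientGroup.eq_one_iff q
  have hF3c : ∀ {φ : P}, φ ∈ F3 → π₄ φ ∈ Subgroup.center (P ⧸ F4) := fun {φ} hφ => by
    refine Subgroup.mem_center_iff.mpr fun w => ?_
    obtain ⟨w, rfl⟩ := QuotientGroup.mk'_surjective F4 w
    refine commutatorElement_eq_one_iff_commute.mp ?_
    rw [← map_commutatorElement, hπ₄1]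
    exact comm_mem_nxt' hφ w
  have hF3p : ∀ {φ : P}, φ ∈ F3 → π₄ φ ^ p = 1 := fun {φ} hφ => by
    rw [← map_pow, hπ₄1]; exact pow_mem_nxt hφ
  have hc2' : ∀ (u v : P), ∀ {φ : P}, φ ∈ F2 → Commute (π₄ ⁅u, v⁆) (π₄ φ) := by
    intro u v φ hφ
    have h1 : ⁅⁅(⊤ : Subgroup (P ⧸ F4)), F2.map π₄⁆, (⊤ : Subgroup (P ⧸ F4))⁆ = ⊥ := by
      rw [Subgroup.commutator_eq_bot_iff_le_centralizer, Subgroup.commutator_le]
      intro g _ k hk
      obtain ⟨g, rfl⟩ := QuotientGroup.mk'_surjective F4 g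
      obtain ⟨k, hk, rfl⟩ := hk
      rw [← map_commutatorElement, Subgroup.mem_centralizer_iff]
      exact fun w _ => (PGroup.commute_of_mem_center (hF3c (comm_mem_nxt' hk g)) w).symm.eq
    have h2 : ⁅⁅F2.map π₄, (⊤ : Subgroup (P ⧸ F4))⁆, (⊤ : Subgroup (P ⧸ F4))⁆ = ⊥ := by
      rwa [Subgroup.commutator_comm (F2.map π₄)]
    have h3 := Subgroup.commutator_commutator_eq_bot_of_rotate h1 h2
    rw [Subgroup.commutator_eq_bot_iff_le_centralizer] at h3
    have h4 := h3 (Subgroup.commutator_mem_commutator (Subgroup.mem_top (π₄ u)) (Subgroup.mem_top (π₄ v)))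
    rw [← map_commutatorElement] at h4
    exact (Subgroup.mem_centralizer_iff.mp h4 _ ⟨φ, hφ, rfl⟩).symm
  have hF2form : ∀ {φ : P}, φ ∈ F2 → ∃ i j : ℕ, (y₁ ^ i * y₂ ^ j)⁻¹ * φ ∈ F3 := by
    intro φ hφ
    have h1 := hF2gen hφ
    rw [hH3] at h1
    obtain ⟨i, j, hij⟩ : ∃ i j : ℤ, π₃ y₁ ^ i * π₃ y₂ ^ j = π₃ φ := by
      have hcy : Commute (π₃ y₁) (π₃ y₂) := PGroup.commute_of_mem_center (hF2c hy₁F) _
      generalize π₃ φ = v at h1 ⊢
      induction h1 using Subgroup.closure_induction with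
      | mem y hy =>
        rcases hy with rfl | rfl
        · exact ⟨1, 0, by simp⟩
        · exact ⟨0, 1, by simp⟩
      | one => exact ⟨0, 0, by simp⟩
      | mul u v _ _ hu hv =>
        obtain ⟨i, j, rfl⟩ := hu
        obtain ⟨i', j', rfl⟩ := hv
        exact ⟨i + i', j + j', by
          rw [zpow_add, zpow_add]
          exact ((hcy.zpow_zpow i' j).symm.mul_mul_mul_comm _ _).symm⟩
      | inv u _ hu =>
        obtain ⟨i, j, rfl⟩ := hu
        exact ⟨-i, -j, by rw [mul_inv_rev, ← zpow_neg, ← zpow_neg, (hcy.zpow_zpow (-i) (-j)).eq]⟩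
    obtain ⟨i', hi'⟩ := (isOfFinOrder_of_finite (π₃ y₁)).mem_powers_iff_mem_zpowers.mpr
      (Subgroup.zpow_mem _ (Subgroup.mem_zpowers (π₃ y₁)) i)
    obtain ⟨j', hj'⟩ := (isOfFinOrder_of_finite (π₃ y₂)).mem_powers_iff_mem_zpowers.mpr
      (Subgroup.zpow_mem _ (Subgroup.mem_zpowers (π₃ y₂)) j)
    refine ⟨i', j', hπ₃1.mp ?_⟩
    rw [map_mul, map_inv, map_mul, map_pow, map_pow, show π₃ y₁ ^ i' = π₃ y₁ ^ i from hi',
      show π₃ y₂ ^ j' = π₃ y₂ ^ j from hj', hij, inv_mul_cancel]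
  have hab1 : ∀ {φ ψ : P}, φ ∈ F1 → ψ ∈ F1 → Commute (π₄ φ) (π₄ ψ) := by
    have h22 : ∀ {φ ψ : P}, φ ∈ F2 → ψ ∈ F2 → Commute (π₄ φ) (π₄ ψ) := fun {φ ψ} hφ hψ => by
      obtain ⟨i, j, h⟩ := hF2form hφ
      rw [show φ = y₁ ^ i * y₂ ^ j * ((y₁ ^ i * y₂ ^ j)⁻¹ * φ) by rw [mul_inv_cancel_left], map_mul, map_mul,
        map_pow, map_pow]
      exact (((hc2' a z hψ).pow_left i).mul_left ((hc2' b z hψ).pow_left j)).mul_left
        (PGroup.commute_of_mem_center (hF3c h) _)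
    intro φ ψ hφ hψ
    obtain ⟨n, hn⟩ := hF1z hφ
    obtain ⟨m, hm⟩ := hF1z hψ
    rw [show φ = z ^ n * ((z ^ n)⁻¹ * φ) by rw [mul_inv_cancel_left],
      show ψ = z ^ m * ((z ^ m)⁻¹ * ψ) by rw [mul_inv_cancel_left], map_mul π₄ (z ^ n), map_mul π₄ (z ^ m),
      map_pow π₄ z n, map_pow π₄ z m]
    exact ((((Commute.refl _).pow_pow n m)).mul_right ((hc2' a b hm).pow_left n)).mul_left
      (((hc2' a b hn).symm.pow_right m).mul_right (h22 hn hm))
  have hyp : ∀ g : P, π₄ ⁅g, z⁆ ^ p = 1 := fun g => by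
    have h1 : π₄ (z ^ p) ∈ Subgroup.center (P ⧸ F4) := hF3c (hπ₃1.mp (by rw [map_pow]; exact hzp3))
    have h2 : ⁅π₄ g, π₄ (z ^ p)⁆ = 1 :=
      commutatorElement_eq_one_iff_commute.mpr (PGroup.commute_of_mem_center h1 _).symm
    rw [map_pow, PGroup.commutatorElement_pow_right (by
      rw [← map_commutatorElement]; exact hab1 (h21 (hF12 hzF g)) hzF), ← map_commutatorElement] at h2
    exact h2
  have hF2p4 : ∀ {φ : P}, φ ∈ F2 → π₄ φ ^ p = 1 := fun {φ} hφ => by
    obtain ⟨i, j, h⟩ := hF2form hφ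
    have hy12 : Commute (π₄ y₁) (π₄ y₂) := hab1 (h21 hy₁F) (h21 hy₂F)
    rw [show φ = y₁ ^ i * y₂ ^ j * ((y₁ ^ i * y₂ ^ j)⁻¹ * φ) by rw [mul_inv_cancel_left], map_mul, map_mul,
      map_pow, map_pow, (PGroup.commute_of_mem_center (hF3c h) _).symm.mul_pow, hF3p h, mul_one,
      (hy12.pow_pow i j).mul_pow, ← pow_mul, ← pow_mul, mul_comm i, mul_comm j, pow_mul, pow_mul,
      show π₄ y₁ ^ p = 1 from hyp a, show π₄ y₂ ^ p = 1 from hyp b, one_pow, one_pow, one_mul]
  have hμz : z⁻¹ * μ z ∈ F2 := by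
    rw [← hπ₂1, map_mul, map_inv, inv_mul_eq_one, hz, map_commutatorElement μ, map_commutatorElement π₂,
      map_commutatorElement π₂, show μ a = a * (a⁻¹ * μ a) by group,
      show μ b = b * a ^ s * ((b * a ^ s)⁻¹ * μ b) by group, map_mul π₂ a, map_mul π₂ (b * a ^ s),
      map_mul π₂ b, map_pow]
    simp only [PGroup.comm_mul_left hc2, PGroup.comm_mul_right hc2, PGroup.comm_pow_right hc2,
      commutatorElement_self, one_pow, mul_one,
      commutatorElement_eq_one_iff_commute.mpr (hF1c hμa b),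
      commutatorElement_eq_one_iff_commute.mpr (hF1c hμa a),
      commutatorElement_eq_one_iff_commute.mpr (hF1c hμb a).symm,
      commutatorElement_eq_one_iff_commute.mpr (hF1c hμa ((b * a ^ s)⁻¹ * μ b))]
  have hF3bot : F3 = ⊥ := by
    refine eq_bot_of_le_nxt hP F3 ?_
    have hcard : Nat.card F3 ≤ p * Nat.card F4 := by
      have h1 := hrank F2 F4 (h43.trans h32) inferInstance (fun u hu v hv => by
        rw [← hπ₄1, map_commutatorElement, commutatorElement_eq_one_iff_commute]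
        exact hab1 (h21 hu) (h21 hv)) (fun u hu => by rw [← hπ₄1, map_pow]; exact hF2p4 hu)
      set M := F3 ⊔ Subgroup.zpowers y₁ with hM
      have hyne : ∀ i j : ℕ, (i : ZMod p) ≠ 0 ∨ (j : ZMod p) ≠ 0 → y₁ ^ i * y₂ ^ j ∉ F3 := by
        intro i j hij h
        have h' := hy_ind i j (by rw [← map_pow, ← map_pow, ← map_mul]; exact hπ₃1.mpr h)
        tauto
      have h3M : F3 < M := lt_of_le_of_ne le_sup_left fun h => hyne 1 0 (Or.inl (by simp))
        (by simpa using h.ge (Subgroup.mem_sup_right (Subgroup.mem_zpowers y₁)))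
      have hM2 : M < F2 := by
        refine lt_of_le_of_ne (sup_le h32 (Subgroup.zpowers_le.mpr hy₁F)) fun h => ?_
        obtain ⟨u, hu, v, hv, huv⟩ := (Subgroup.mem_sup_of_normal_left (s := F3)).mp (h.ge hy₂F)
        obtain ⟨n, rfl⟩ := (isOfFinOrder_of_finite y₁).mem_powers_iff_mem_zpowers.mpr hv
        refine hyne ((p - 1) * n) 1 (Or.inr (by simp)) ?_
        have h' : π₃ y₂ = π₃ y₁ ^ n := by
          rw [← huv, map_mul, hπ₃1.mpr hu, one_mul, map_pow]
        rw [← hπ₃1, map_mul, map_pow, map_pow, pow_one, h', ← pow_add,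
          show (p - 1) * n + n = p * n by
            rw [Nat.sub_mul, one_mul, Nat.sub_add_cancel (Nat.le_mul_of_pos_left n hpp.pos)],
          pow_mul, hF2p hy₁F, one_pow]
      have h2 := card_mul_le' hP h3M
      have h3 := card_mul_le' hP hM2
      have h4 : p ^ 2 * Nat.card F3 ≤ p ^ 2 * (p * Nat.card F4) := by
        calc _ = p * (p * Nat.card F3) := by ring
          _ ≤ p * Nat.card M := by gcongr
          _ ≤ _ := h3
          _ ≤ _ := h1
          _ = _ := by ring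
      exact Nat.le_of_mul_le_mul_left h4 (pow_pos hpp.pos 2)
    by_contra hne
    set η₄ : MulAut (P ⧸ F4) := qAut F4 μ
    have hη₄m : ∀ q, η₄ (π₄ q) = π₄ (μ q) := fun q => rfl
    -- the automorphism fixes `Φ₃ / Φ₄`
    have hfix : ∀ {φ : P}, φ ∈ F3 → η₄ (π₄ φ) = π₄ φ := by
      intro φ hφ
      rcases eq_or_ne (π₄ φ) 1 with h0 | h0
      · rw [h0, map_one]
      set t := π₄ φ
      have htp : t ^ p = 1 := hF3p hφ
      have hlt : F4 < F4 ⊔ Subgroup.zpowers φ := lt_of_le_of_ne le_sup_left fun h =>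
        h0 (hπ₄1.mpr (h.ge (Subgroup.mem_sup_right (Subgroup.mem_zpowers φ))))
      have heq : F4 ⊔ Subgroup.zpowers φ = F3 := Subgroup.eq_of_le_of_card_ge
        (sup_le h43 (Subgroup.zpowers_le.mpr hφ)) (hcard.trans (card_mul_le' hP hlt))
      have hμφ : μ φ ∈ F3 := Subgroup.characteristic_iff_map_le.mp inferInstance μ ⟨φ, hφ, rfl⟩
      obtain ⟨u, hu, v, hv, huv⟩ := (Subgroup.mem_sup_of_normal_left (s := F4)).mp (heq.ge hμφ)
      obtain ⟨k, rfl⟩ := (isOfFinOrder_of_finite φ).mem_powers_iff_mem_zpowers.mpr hv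
      have hk : η₄ t = t ^ k := by rw [hη₄m, ← huv, map_mul, hπ₄1.mpr hu, one_mul, map_pow]
      have hit : ∀ n : ℕ, (η₄ ^ n) t = t ^ k ^ n := fun n => by
        induction n with
        | zero => simp
        | succ n ih => rw [pow_succ', MulAut.mul_apply, ih, map_pow, hk, ← pow_mul, pow_succ' k]
      have hp1 : (η₄ ^ p) t = t := by
        rw [← map_pow, hw₀]
        show π₄ (w₀ * φ * w₀⁻¹) = t
        rw [map_mul, map_mul, map_inv, ← (PGroup.commute_of_mem_center (hF3c hφ) _).eq, mul_inv_cancel_right]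
      rw [hit] at hp1
      have h2 : (k : ZMod p) = 1 := by
        have h3 := pow_eq_pow_iff_modEq.mp (hp1.trans (pow_one t).symm)
        rw [orderOf_eq_prime htp h0, ← ZMod.natCast_eq_natCast_iff] at h3
        push_cast at h3
        rwa [ZMod.pow_card] at h3
      rw [hk]
      conv_rhs => rw [← pow_one t]
      refine pow_eq_pow_iff_modEq.mpr ?_
      rw [orderOf_eq_prime htp h0, ← ZMod.natCast_eq_natCast_iff, Nat.cast_one]
      exact h2
    let Bf : P → P → P ⧸ F4 := fun g h => ⁅π₄ g, ⁅π₄ h, π₄ z⁆⁆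
    have hBc : ∀ g h, Bf g h ∈ Subgroup.center (P ⧸ F4) ∧ Bf g h ^ p = 1 := fun g h => by
      show ⁅_, ⁅_, _⁆⁆ ∈ _ ∧ _
      simp only [Bf]
      rw [← map_commutatorElement, ← map_commutatorElement]
      have h' : ⁅g, ⁅h, z⁆⁆ ∈ F3 := comm_mem_nxt' (hF12 hzF h) g
      exact ⟨hF3c h', hF3p h'⟩
    have hsymm : ∀ g h, Bf g h = Bf h g := by
      intro g h
      set G1 := ⁅π₄ g, π₄ z⁆ with hG1
      set H1 := ⁅π₄ h, π₄ z⁆ with hH1
      have hGH : Commute G1 H1 := by
        rw [hG1, hH1, ← map_commutatorElement, ← map_commutatorElement]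
        exact hab1 (h21 (hF12 hzF g)) (h21 (hF12 hzF h))
      have key : ∀ g h : P, π₄ g * π₄ h * π₄ z * (π₄ g * π₄ h)⁻¹ =
          Bf g h * ⁅π₄ h, π₄ z⁆ * ⁅π₄ g, π₄ z⁆ * π₄ z := fun g h => by
        simp only [Bf, commutatorElement_def]; group
      have hzF4 : Commute (π₄ g * π₄ h * π₄ z * (π₄ g * π₄ h)⁻¹) (π₄ ⁅h, g⁆) := by
        rw [← map_mul, ← map_mul, ← map_inv, ← map_mul]
        exact hab1 ((inferInstance : F1.Normal).conj_mem z hzF (g * h)) (PGroup.comm_mem_frattini hP _ _)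
      have h1 : π₄ h * π₄ g * π₄ z * (π₄ h * π₄ g)⁻¹ = π₄ g * π₄ h * π₄ z * (π₄ g * π₄ h)⁻¹ := by
        calc π₄ h * π₄ g * π₄ z * (π₄ h * π₄ g)⁻¹
            = π₄ ⁅h, g⁆ * (π₄ g * π₄ h * π₄ z * (π₄ g * π₄ h)⁻¹) * (π₄ ⁅h, g⁆)⁻¹ := by
              simp only [commutatorElement_def, map_mul, map_inv]; group
          _ = _ := by rw [← hzF4.eq, mul_inv_cancel_right]
      rw [key, key, ← hG1, ← hH1, mul_assoc (Bf h g), mul_assoc (Bf g h), hGH.eq] at h1
      exact (mul_right_cancel (mul_right_cancel h1)).symm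
    have hBl : ∀ g g' h, Bf (g * g') h = Bf g h * Bf g' h := fun g g' h => by
      show ⁅π₄ (g * g'), _⁆ = _
      rw [map_mul]
      exact PGroup.commutatorElement_mul_left_of_mem_center (hBc g' h).1
    have hB1 : ∀ {φ : P}, φ ∈ F1 → ∀ h, Bf φ h = 1 := fun {φ} hφ h => by
      show ⁅π₄ φ, ⁅π₄ h, π₄ z⁆⁆ = 1
      rw [← map_commutatorElement, commutatorElement_eq_one_iff_commute]
      exact hab1 hφ (h21 (hF12 hzF h))
    have hBr : ∀ g h h', Bf g (h * h') = Bf g h * Bf g h' := fun g h h' => by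
      rw [hsymm, hBl, hsymm h g, hsymm h' g]
    have hB1' : ∀ {φ : P}, φ ∈ F1 → ∀ g, Bf g φ = 1 := fun {φ} hφ g => by rw [hsymm]; exact hB1 hφ g
    have hBpow : ∀ g h (n : ℕ), Bf (g ^ n) h = Bf g h ^ n := fun g h n => by
      induction n with
      | zero => simp [Bf]
      | succ n ih => rw [pow_succ, hBl, ih, pow_succ]
    have hinv : ∀ g h, Bf (μ g) (μ h) = Bf g h := by
      intro g h
      have h0 : η₄ (π₄ ⁅g, ⁅h, z⁆⁆) = π₄ ⁅g, ⁅h, z⁆⁆ := hfix (comm_mem_nxt' (hF12 hzF h) g)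
      rw [hη₄m] at h0
      simp only [map_commutatorElement] at h0
      show _ = ⁅π₄ g, ⁅π₄ h, π₄ z⁆⁆
      rw [← h0]
      set c := ⁅π₄ (μ h), π₄ (z⁻¹ * μ z)⁆
      have hcc : c ∈ Subgroup.center (P ⧸ F4) := by
        simp only [c]; rw [← map_commutatorElement]; exact hF3c (comm_mem_nxt' hμz (μ h))
      have h1 : ⁅π₄ (μ h), π₄ (μ z)⁆ = ⁅π₄ (μ h), π₄ z⁆ * c := by
        conv_lhs => rw [show μ z = z * (z⁻¹ * μ z) by group, map_mul π₄ z]
        exact PGroup.commutatorElement_mul_right_of_mem_center hcc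
      rw [h1, PGroup.commutatorElement_mul_right_of_mem_center (by
        rw [commutatorElement_eq_one_iff_commute.mpr (PGroup.commute_of_mem_center hcc _).symm]; exact one_mem _),
        commutatorElement_eq_one_iff_commute.mpr (PGroup.commute_of_mem_center hcc _).symm, mul_one]
    have hzero : ∀ (y : P ⧸ F4) (n : ℕ), y ^ p = 1 → (n : ZMod p) ≠ 0 → y ^ n = 1 → y = 1 := by
      intro y n hy hn h
      by_contra hy1
      have := orderOf_dvd_of_pow_eq_one h
      rw [orderOf_eq_prime hy hy1] at this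
      exact hn ((ZMod.natCast_eq_zero_iff n p).mpr this)
    have hμexp : ∀ g h, Bf (μ g) (μ h) =
        Bf (g * (g⁻¹ * μ g)) (h * (h⁻¹ * μ h)) := fun g h => by simp
    have eA : ∀ h, Bf (μ a) h = Bf a h := fun h => by
      rw [show μ a = a * (a⁻¹ * μ a) by group, hBl, hB1 hμa, mul_one]
    have eB : ∀ h, Bf (μ b) h = Bf b h * Bf a h ^ s := fun h => by
      rw [show μ b = b * a ^ s * ((b * a ^ s)⁻¹ * μ b) by group, hBl, hB1 hμb, mul_one, hBl, hBpow]
    have haa : Bf a a = 1 := by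
      have h := hinv b a
      rw [eB, hsymm b (μ a), eA, hsymm a (μ a), eA, hsymm b a, mul_eq_left] at h
      exact hzero _ s (hBc a a).2 hs h
    have hab : Bf a b = 1 := by
      have h := hinv b b
      rw [eB, hsymm b (μ b), eB, hsymm a (μ b), eB, haa, one_pow, mul_one, hsymm b a, mul_assoc, mul_eq_left,
        ← pow_add] at h
      refine hzero _ (s + s) (hBc a b).2 ?_ h
      push_cast
      intro h2
      have h22 : (2 : ZMod p) * s = 0 := by linear_combination h2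
      rcases mul_eq_zero.mp h22 with h3 | h3
      · have := (ZMod.natCast_eq_zero_iff 2 p).mp (by exact_mod_cast h3)
        have := Nat.le_of_dvd (by norm_num) this
        omega
      · exact hs h3
    -- `a` centralizes `Φ₂` modulo `Φ₄`
    set Rd := (Subgroup.centralizer ((F2.map π₄ : Subgroup (P ⧸ F4)) : Set (P ⧸ F4))).comap π₄ with hRd
    have hRdF1 : F1 ≤ Rd := fun φ hφ => by
      rw [hRd, Subgroup.mem_comap, Subgroup.mem_centralizer_iff]
      rintro _ ⟨ψ, hψ, rfl⟩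
      exact (hab1 (h21 hψ) hφ).eq
    have haRd : a ∈ Rd := by
      rw [hRd, Subgroup.mem_comap, Subgroup.mem_centralizer_iff]
      rintro _ ⟨ψ, hψ, rfl⟩
      obtain ⟨i, j, h⟩ := hF2form hψ
      have hy1c : Commute (π₄ a) (π₄ y₁) := by
        rw [← commutatorElement_eq_one_iff_commute, hy₁, map_commutatorElement π₄ a z]; exact haa
      have hy2c : Commute (π₄ a) (π₄ y₂) := by
        rw [← commutatorElement_eq_one_iff_commute, hy₂, map_commutatorElement π₄ b z]; exact hab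
      rw [show ψ = y₁ ^ i * y₂ ^ j * ((y₁ ^ i * y₂ ^ j)⁻¹ * ψ) by rw [mul_inv_cancel_left], map_mul, map_mul,
        map_pow, map_pow]
      exact (((hy1c.pow_right i).mul_right (hy2c.pow_right j)).mul_right
        (PGroup.commute_of_mem_center (hF3c h) _).symm).symm.eq
    have hRtop := htop Rd (characteristic_centralizer_mod F2 F4) hRdF1 haRd
    apply hne
    refine nxt_le (fun u hu w => ?_) fun u hu => ?_
    · rw [← hπ₄1, map_commutatorElement, commutatorElement_eq_one_iff_commute]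
      have h1 : π₄ w ∈ Subgroup.centralizer ((F2.map π₄ : Subgroup (P ⧸ F4)) : Set (P ⧸ F4)) :=
        hRtop.ge (Subgroup.mem_top w)
      exact Subgroup.mem_centralizer_iff.mp h1 _ ⟨u, hu, rfl⟩
    · rw [← hπ₄1, map_pow]; exact hF2p4 hu
  -- back in `P`
  have hinj3 : ∀ {u v : P}, π₃ u = π₃ v → u = v := fun {u v} h => by
    have := hπ₃1.mp (show π₃ (u⁻¹ * v) = 1 by rw [map_mul, map_inv, h, inv_mul_cancel])
    rw [hF3bot, Subgroup.mem_bot, inv_mul_eq_one] at this
    exact this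
  have hF2cen : F2 ≤ Subgroup.center P := fun φ hφ => Subgroup.mem_center_iff.mpr fun w => hinj3 (by
    rw [map_mul, map_mul]
    exact Subgroup.mem_center_iff.mp (hF2c hφ) _)
  have hzp : z ^ p = 1 := hinj3 (by rw [map_pow, hzp3, map_one])
  have hyp1 : ∀ {φ : P}, φ ∈ F2 → φ ^ p = 1 := fun {φ} hφ => hinj3 (by rw [map_pow, hF2p hφ, map_one])
  have hF2eq : ∀ y ∈ F2, ∃ i j : ℕ, y = y₁ ^ i * y₂ ^ j := fun y hy => by
    obtain ⟨i, j, h⟩ := hF2form hy
    rw [hF3bot, Subgroup.mem_bot, inv_mul_eq_one] at h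
    exact ⟨i, j, h.symm⟩
  have hind2 : ∀ i j : ℕ, y₁ ^ i * y₂ ^ j = 1 → (i : ZMod p) = 0 ∧ (j : ZMod p) = 0 := fun i j h =>
    hy_ind i j (by rw [← map_pow, ← map_pow, ← map_mul, h, map_one])
  have hy1ne : y₁ ≠ 1 := fun h => one_ne_zero (α := ZMod p) (by simpa using (hind2 1 0 (by simp [h])).1)
  have hy2not : y₂ ∉ Subgroup.zpowers y₁ := fun h => by
    obtain ⟨n, hn⟩ := (isOfFinOrder_of_finite y₁).mem_powers_iff_mem_zpowers.mpr h
    have := (hind2 ((p - 1) * n) 1 (by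
      rw [pow_one, ← show y₁ ^ n = y₂ from hn, ← pow_add, show (p - 1) * n + n = p * n by
        rw [Nat.sub_mul, one_mul, Nat.sub_add_cancel (Nat.le_mul_of_pos_left n hpp.pos)],
        pow_mul, hyp1 hy₁F, one_pow])).2
    simp at this
  have hcardF2 : Nat.card F2 = p ^ 2 := by
    refine le_antisymm ?_ ?_
    · refine le_trans (Nat.card_le_card_of_surjective
        (fun v : ZMod p × ZMod p => (⟨y₁ ^ v.1.val * y₂ ^ v.2.val,
          mul_mem (pow_mem hy₁F _) (pow_mem hy₂F _)⟩ : F2)) fun ⟨y, hy⟩ => ?_) ?_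
      · obtain ⟨i, j, rfl⟩ := hF2eq y hy
        exact ⟨((i : ZMod p), (j : ZMod p)), Subtype.ext (by
          simp only [pow_nat_val (hyp1 hy₁F), pow_nat_val (hyp1 hy₂F)])⟩
      · rw [Nat.card_prod, Nat.card_zmod, sq]
    · have h2 : Subgroup.zpowers y₁ < F2 := lt_of_le_of_ne (Subgroup.zpowers_le.mpr hy₁F) fun h =>
        hy2not (h.ge hy₂F)
      have := card_mul_le' hP h2
      rwa [Nat.card_zpowers, orderOf_eq_prime (hyp1 hy₁F) hy1ne, ← sq] at this
  have hcardF1 : Nat.card F1 = p ^ 3 := by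
    refine le_antisymm ?_ ?_
    · refine le_trans (Nat.card_le_card_of_surjective
        (fun v : ZMod p × F2 => (⟨z ^ v.1.val * v.2, mul_mem (pow_mem hzF _) (h21 v.2.2)⟩ : F1))
        fun ⟨φ, hφ⟩ => ?_) ?_
      · obtain ⟨n, hn⟩ := hF1z hφ
        exact ⟨((n : ZMod p), ⟨_, hn⟩), Subtype.ext (by
          simp only [pow_nat_val hzp]
          group)⟩
      · rw [Nat.card_prod, Nat.card_zmod, hcardF2, pow_succ' p 2]
    · have := card_mul_le' hP (lt_of_le_of_ne h21 fun h => hz2 (h.ge hzF))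
      rwa [hcardF2, ← pow_succ' p 2] at this
  right
  refine ⟨F2, ?_, h21, inferInstance, hF2cen, y₁, y₂, s, hy2not, hs, hy₁F, hy₂F, hyp1 hy₁F, hyp1 hy₂F, hy1ne, ?_, ?_, hF2eq,
    fun u hu => ?_⟩
  · rw [← F1.card_mul_index, hcardF1, hidx, ← pow_add]
  · have key : ∀ g, μ ⁅g, z⁆ = ⁅μ g, z⁆ := fun g => by
      rw [map_commutatorElement, show μ z = z * (z⁻¹ * μ z) by group]
      have h0 : ⁅μ g, z⁻¹ * μ z⁆ = 1 :=
        commutatorElement_eq_one_iff_commute.mpr (PGroup.commute_of_mem_center (hF2cen hμz) _).symm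
      rw [PGroup.commutatorElement_mul_right_of_mem_center (by rw [h0]; exact one_mem _), h0, mul_one]
    rw [hy₁, key]
    refine hinj3 ?_
    rw [show μ a = a ^ 1 * b ^ 0 * (a⁻¹ * μ a) by simp, hzform 1 0 hμa]
    simp [hy₁]
  · have key : ∀ g, μ ⁅g, z⁆ = ⁅μ g, z⁆ := fun g => by
      rw [map_commutatorElement, show μ z = z * (z⁻¹ * μ z) by group]
      have h0 : ⁅μ g, z⁻¹ * μ z⁆ = 1 :=
        commutatorElement_eq_one_iff_commute.mpr (PGroup.commute_of_mem_center (hF2cen hμz) _).symm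
      rw [PGroup.commutatorElement_mul_right_of_mem_center (by rw [h0]; exact one_mem _), h0, mul_one]
    rw [hy₂, key]
    refine hinj3 ?_
    obtain ⟨φ, hφ, hφe⟩ : ∃ φ ∈ F1, a ^ s * b ^ 1 * φ = μ b := by
      refine ⟨_, ?_, mul_inv_cancel_left _ _⟩
      rw [pow_one, show (a ^ s * b)⁻¹ * μ b = ⁅b⁻¹, (a ^ s)⁻¹⁆ * ((b * a ^ s)⁻¹ * μ b) by
        rw [commutatorElement_def]; group]
      exact mul_mem (PGroup.comm_mem_frattini hP _ _) hμb
    rw [← hφe, hzform s 1 hφ, pow_one, map_mul, map_pow,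
      ((PGroup.commute_of_mem_center (hF2c hy₁F) (π₃ y₂)).pow_left s).eq]
  · obtain ⟨i, j, h⟩ := hdec u
    obtain ⟨φ, hφ, rfl⟩ : ∃ φ ∈ F1, a ^ i * b ^ j * φ = u := ⟨_, h, mul_inv_cancel_left _ _⟩
    have hin : ∀ w, π₂ ⁅w, a ^ i * b ^ j * φ⁆ = 1 := fun w => by
      obtain ⟨n, hn⟩ := hu w
      rw [hπ₂1, ← hn]
      exact Subgroup.zpow_mem _ hy₁F n
    have ha1 := hin a
    have hb1 := hin b
    rw [map_commutatorElement, map_mul, map_mul, map_pow, map_pow] at ha1 hb1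
    simp only [PGroup.comm_mul_right hc2, PGroup.comm_pow_right hc2, commutatorElement_self, one_pow, one_mul,
      commutatorElement_eq_one_iff_commute.mpr (hF1c hφ a).symm,
      commutatorElement_eq_one_iff_commute.mpr (hF1c hφ b).symm, mul_one] at ha1 hb1
    rw [← map_commutatorElement, ← hz] at ha1
    rw [← commutatorElement_inv, ← map_commutatorElement, ← hz, inv_pow, inv_eq_one] at hb1
    have hdvd : ∀ n : ℕ, π₂ z ^ n = 1 → p ∣ n := fun n hn => by
      have := orderOf_dvd_of_pow_eq_one hn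
      rwa [orderOf_eq_prime hzp2 hz21] at this
    have hmem : a ^ i * b ^ j * φ ∈ F1 := by
      obtain ⟨ci, rfl⟩ := hdvd _ hb1
      obtain ⟨cj, rfl⟩ := hdvd _ ha1
      rw [pow_mul, pow_mul]
      exact mul_mem (mul_mem (pow_mem (PGroup.pow_mem_frattini hP a) _)
        (pow_mem (PGroup.pow_mem_frattini hP b) _)) hφ
    obtain ⟨n, hn⟩ := hF1z hmem
    set u := a ^ i * b ^ j * φ
    have hbn : ⁅b, u⁆ = y₂ ^ n := by
      conv_lhs => rw [show u = z ^ n * ((z ^ n)⁻¹ * u) by rw [mul_inv_cancel_left]]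
      have h0 : ⁅b, (z ^ n)⁻¹ * u⁆ = 1 :=
        commutatorElement_eq_one_iff_commute.mpr (PGroup.commute_of_mem_center (hF2cen hn) _).symm
      rw [PGroup.commutatorElement_mul_right_of_mem_center (by rw [h0]; exact one_mem _), h0, mul_one,
        PGroup.commutatorElement_pow_right (PGroup.commute_of_mem_center (hF2cen hy₂F) _)]
    have hmem' := hu b
    rw [hbn] at hmem'
    have hn0 : (n : ZMod p) = 0 := by
      by_contra hne
      apply hy2not
      have h4 := Subgroup.pow_mem _ hmem' ((n : ZMod p)⁻¹).val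
      rwa [← pow_mul, ← pow_nat_val (hyp1 hy₂F), Nat.cast_mul, ZMod.natCast_zmod_val, mul_inv_cancel₀ hne,
        ZMod.val_one, pow_one] at h4
    obtain ⟨c, rfl⟩ := (ZMod.natCast_eq_zero_iff n p).mp hn0
    rw [pow_mul, hzp, one_pow, inv_one, one_mul] at hn
    exact hn

/-- The two-generator case inside a group containing the group as a normal subgroup of index `p`. -/
theorem two_gen_case {G : Type*} [Group G] [Finite G] (hp : 5 ≤ p) (hG : IsPGroup p G)
    (E₀ : Subgroup G) [E₀.Normal] (hrE : RankThree p E₀) (hidx : E₀.index = p)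
    (hfr : (frattini E₀).index = p ^ 2)
    (hirr : ∀ K : Subgroup E₀, K.Characteristic → frattini E₀ ≤ K → K = frattini E₀ ∨ K = ⊤)
    (x : G) (hxV : ∃ q : E₀, q⁻¹ * (MulAut.conjNormal x : MulAut E₀) q ∉ frattini E₀) :
    Nat.card E₀ ≤ p ^ 3 ∨ (Nat.card E₀ = p ^ 5 ∧
      E₀ = Subgroup.centralizer ((Subgroup.upperCentralSeries G 2 : Subgroup G) : Set G) ∧
      (frattini G).index ≤ p ^ 2) := by
  classical
  have hEp : IsPGroup p E₀ := hG.to_subgroup E₀
  set μ : MulAut E₀ := MulAut.conjNormal x with hμ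
  have hxp : x ^ p ∈ E₀ := by have := Subgroup.pow_index_mem E₀ x; rwa [hidx] at this
  have hμp : μ ^ p = MulAut.conj ⟨x ^ p, hxp⟩ := by
    refine MulEquiv.ext fun q => Subtype.ext ?_
    rw [hμ, ← map_pow, MulAut.conjNormal_apply]
    rfl
  rcases two_gen_structure hp hEp hrE hfr hirr μ ⟨_, hμp⟩ hxV with h | ⟨Y, hY⟩
  · exact Or.inl h
  right
  obtain ⟨hcard, hle, hchar, hcen, y₁, y₂, s, hy₂n, hs, hy₁Y, hy₂Y, hy₁p, hy₂p, hy₁ne, hμ₁, hμ₂, hform,
    hmax⟩ := hY
  haveI := hchar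
  have hinn : ∀ (g : G) (hg : g ∈ E₀) (q : E₀),
      q⁻¹ * (MulAut.conjNormal g : MulAut E₀) q ∈ frattini E₀ := fun g hg q => by
    rw [show (MulAut.conjNormal g : MulAut E₀) q = ⟨g, hg⟩ * q * ⟨g, hg⟩⁻¹ from Subtype.ext (by simp),
      show q⁻¹ * (⟨g, hg⟩ * q * ⟨g, hg⟩⁻¹) = ⁅q⁻¹, (⟨g, hg⟩ : E₀)⁆ by rw [commutatorElement_def]; group]
    exact PGroup.comm_mem_frattini hEp _ _
  have hxE : x ∉ E₀ := fun h => by
    obtain ⟨q, hq⟩ := hxV
    exact hq (hinn x h q)
  have hco := (PGroup.isCoatom_iff_index_eq_prime hG).mpr hidx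
  -- only elements of `E₀` act trivially on the Frattini quotient
  have key : ∀ u : G, (∀ q : E₀, q⁻¹ * (MulAut.conjNormal u : MulAut E₀) q ∈ frattini E₀) → u ∈ E₀ := by
    intro u hu
    by_contra huE
    let T : Subgroup G := MonoidHom.ker ((qAut (frattini E₀)).comp MulAut.conjNormal)
    have hmem : ∀ g : G, (∀ q : E₀, q⁻¹ * (MulAut.conjNormal g : MulAut E₀) q ∈ frattini E₀) ↔ g ∈ T := by
      intro g
      rw [MonoidHom.mem_ker, MonoidHom.comp_apply]
      constructor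
      · intro h
        refine MulEquiv.ext fun v => ?_
        induction v using QuotientGroup.induction_on with
        | H q => rw [qAut_mk, MulAut.one_apply]; exact (QuotientGroup.eq.mpr (h q)).symm
      · intro h q
        refine QuotientGroup.eq.mp (?_ : (q : E₀ ⧸ frattini E₀) = _)
        rw [← qAut_mk, h, MulAut.one_apply]
    have hET : E₀ ≤ T := fun g hg => (hmem g).mp (hinn g hg)
    have htop : T = ⊤ := hco.2 _ (lt_of_le_of_ne hET fun h => huE (h.ge ((hmem u).mp hu)))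
    obtain ⟨q, hq⟩ := hxV
    exact hq ((hmem x).mpr (htop ▸ Subgroup.mem_top x) q)
  have hfull : ∀ T : Subgroup G, E₀ ≤ T → x ∈ T → ∀ g, g ∈ T := fun T hET hxT g => by
    rw [hco.2 T (lt_of_le_of_ne hET fun h => hxE (h.ge hxT))]
    exact Subgroup.mem_top g
  have hxy : ∀ y : E₀, ((μ y : E₀) : G) = x * y * x⁻¹ := fun y => MulAut.conjNormal_apply ..
  have hy₁Z : (y₁ : G) ∈ Subgroup.center G := by
    refine Subgroup.mem_center_iff.mpr fun g => ?_
    refine Subgroup.mem_centralizer_singleton_iff.mp (hfull _ (fun e he => ?_) ?_ g)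
    · exact Subgroup.mem_centralizer_singleton_iff.mpr
        (congrArg Subtype.val (Subgroup.mem_center_iff.mp (hcen hy₁Y) ⟨e, he⟩))
    · refine Subgroup.mem_centralizer_singleton_iff.mpr ?_
      have h := hxy y₁
      rw [hμ₁] at h
      nth_rewrite 2 [h]
      group
  have hZE : Subgroup.center G ≤ E₀ := fun u hu => key u fun q => by
    have : (MulAut.conjNormal u : MulAut E₀) q = q := Subtype.ext (by
      rw [MulAut.conjNormal_apply, ← Subgroup.mem_center_iff.mp hu, mul_inv_cancel_right])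
    rw [this, inv_mul_cancel]
    exact one_mem _
  have hZY : ∀ (u : E₀), (u : G) ∈ Subgroup.center G → u ∈ Subgroup.zpowers y₁ := by
    intro u hu
    have huY : u ∈ Y := hmax _ fun w => by
      rw [commutatorElement_eq_one_iff_commute.mpr (Subtype.ext (Subgroup.mem_center_iff.mp hu w) :
        Commute w u)]
      exact one_mem _
    obtain ⟨i, j, h⟩ := hform _ huY
    have hfix : μ u = u := Subtype.ext (by
      rw [hxy, Subgroup.mem_center_iff.mp hu x, mul_inv_cancel_right])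
    rw [h, map_mul, map_pow, map_pow, hμ₁, hμ₂,
      (PGroup.commute_of_mem_center (hcen hy₂Y) (y₁ ^ s)).mul_pow, mul_right_inj, mul_eq_left, ← pow_mul] at hfix
    have hd := orderOf_dvd_of_pow_eq_one hfix
    rw [orderOf_eq_prime hy₁p hy₁ne] at hd
    rcases (Nat.Prime.dvd_mul Fact.out).mp hd with hd | hd
    · exact absurd ((ZMod.natCast_eq_zero_iff s p).mpr hd) hs
    obtain ⟨c, rfl⟩ := hd
    rw [h, pow_mul, hy₂p, one_pow, mul_one]
    exact Subgroup.pow_mem _ (Subgroup.mem_zpowers _) i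
  set Y' := Y.map E₀.subtype with hY'
  have hucs : Subgroup.upperCentralSeries G 2 = Y' := by
    refine le_antisymm (fun u hu => ?_) ?_
    · have h1 : ∀ g, ⁅u, g⁆ ∈ Subgroup.center G := fun g => by
        have := Subgroup.mem_upperCentralSeries_succ_iff.mp hu g
        rwa [Subgroup.upperCentralSeries_one] at this
      have huE : u ∈ E₀ := key u fun q => by
        have h2 := hle ((Subgroup.zpowers_le.mpr hy₁Y) (hZY ⟨_, hZE (h1 q)⟩ (h1 q)))
        have h3 : q⁻¹ * (MulAut.conjNormal u : MulAut E₀) q = q⁻¹ * ⟨_, hZE (h1 q)⟩ * q := Subtype.ext (by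
          simp only [Subgroup.coe_mul, MulAut.conjNormal_apply, Subgroup.coe_inv, commutatorElement_def]
          group)
        rw [h3]
        simpa using (inferInstance : (frattini E₀).Normal).conj_mem _ h2 q⁻¹
      refine ⟨⟨u, huE⟩, hmax _ fun w => ?_, rfl⟩
      rw [← commutatorElement_inv]
      exact inv_mem (hZY _ (by rw [← E₀.subtype_apply, map_commutatorElement]; exact h1 w))
    · rintro _ ⟨y, hy, rfl⟩
      refine Subgroup.mem_upperCentralSeries_succ_iff.mpr fun g => ?_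
      rw [Subgroup.upperCentralSeries_one]
      let π := QuotientGroup.mk' (Subgroup.center G)
      have hg : g ∈ (Subgroup.centralizer {π (E₀.subtype y)}).comap π := by
        refine hfull _ (fun e he => ?_) ?_ g
        · rw [Subgroup.mem_comap, Subgroup.mem_centralizer_singleton_iff, ← map_mul, ← map_mul]
          exact congrArg π (congrArg Subtype.val (Subgroup.mem_center_iff.mp (hcen hy) ⟨e, he⟩))
        · rw [Subgroup.mem_comap, Subgroup.mem_centralizer_singleton_iff]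
          obtain ⟨i, j, rfl⟩ := hform y hy
          have h := hxy (y₁ ^ i * y₂ ^ j)
          rw [map_mul, map_pow, map_pow, hμ₁, hμ₂,
            (PGroup.commute_of_mem_center (hcen hy₂Y) (y₁ ^ s)).mul_pow] at h
          have h2 : π (((y₁ ^ i * (y₂ ^ j * (y₁ ^ s) ^ j) : E₀) : G)) = π (E₀.subtype (y₁ ^ i * y₂ ^ j)) := by
            simp only [Subgroup.coe_mul, SubmonoidClass.coe_pow, Subgroup.coe_subtype, map_mul, map_pow,
              show π (y₁ : G) = 1 from (QuotientGroup.eq_one_iff _).mpr hy₁Z, one_pow, one_mul, mul_one]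
          rw [h, map_mul, map_mul, map_inv, mul_inv_eq_iff_eq_mul] at h2
          exact h2
      rw [← QuotientGroup.eq_one_iff, show ((⁅E₀.subtype y, g⁆ : G) : G ⧸ Subgroup.center G) =
        ⁅π (E₀.subtype y), π g⁆ from map_commutatorElement π _ _, commutatorElement_eq_one_iff_commute]
      exact (Subgroup.mem_centralizer_singleton_iff.mp hg).symm
  refine ⟨hcard, ?_, ?_⟩
  · rw [hucs]
    have hEC : E₀ ≤ Subgroup.centralizer (Y' : Set G) := fun e he => by
      rw [Subgroup.mem_centralizer_iff]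
      rintro _ ⟨y, hy, rfl⟩
      exact congrArg Subtype.val (Subgroup.mem_center_iff.mp (hcen hy) ⟨e, he⟩).symm
    rcases hco.le_iff.mp hEC with h | h
    · exfalso
      have hx' : x ∈ Subgroup.centralizer (Y' : Set G) := h.ge (Subgroup.mem_top x)
      have h1 := Subgroup.mem_centralizer_iff.mp hx' _ ⟨y₂, hy₂Y, rfl⟩
      have h2 : μ y₂ = y₂ := Subtype.ext (by
        rw [hxy]; exact mul_inv_eq_iff_eq_mul.mpr h1.symm)
      rw [hμ₂, mul_eq_left] at h2
      have hd := orderOf_dvd_of_pow_eq_one h2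
      rw [orderOf_eq_prime hy₁p hy₁ne] at hd
      exact hs ((ZMod.natCast_eq_zero_iff s p).mpr hd)
    · exact h.symm
  · obtain ⟨q, hq⟩ := hxV
    set Φ' := (frattini E₀).map E₀.subtype
    have hlt : Φ' < frattini G := by
      refine lt_of_le_of_ne (frattini_map_le hG E₀) fun h => hq ?_
      have hm : ((q⁻¹ * μ q : E₀) : G) ∈ Φ' := by
        rw [h, Subgroup.coe_mul, Subgroup.coe_inv, hxy,
          show (q : G)⁻¹ * (x * q * x⁻¹) = ⁅(q : G)⁻¹, x⁆ by rw [commutatorElement_def]; group]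
        exact PGroup.comm_mem_frattini hG _ _
      obtain ⟨w, hw, hwe⟩ := hm
      rwa [Subtype.ext (a1 := w) hwe] at hw
    have h1 := card_mul_le' hG hlt
    have h2 : Φ'.index = p ^ 3 := by
      rw [← Subgroup.relIndex_mul_index (Subgroup.map_subtype_le _), hidx, pow_succ p 2, ← hfr,
        Subgroup.relIndex, Subgroup.subgroupOf, Subgroup.comap_map_eq_self_of_injective E₀.subtype_injective]
    have h3 := Φ'.card_mul_index
    rw [h2, ← (frattini G).card_mul_index] at h3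
    have h4 : p * Nat.card Φ' * (frattini G).index ≤ p * Nat.card Φ' * p ^ 2 := by
      calc _ ≤ Nat.card (frattini G) * (frattini G).index := Nat.mul_le_mul_right _ h1
        _ = Nat.card Φ' * p ^ 3 := h3.symm
        _ = _ := by ring
    exact Nat.le_of_mul_le_mul_left h4 (Nat.mul_pos (Fact.out : p.Prime).pos Nat.card_pos)

end Cfsg.Agent.LocalEvenD.RTP
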